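import Groth.Agent.Lib.Helper22.Cech.Exact
import Groth.Agent.Lib.Helper22.CohTop.FlasqueAcyclic
import Groth.Agent.Lib.Helper22.CohTop.SectSupp

/-!
# Čech cohomology on a topological space: flasque sheaves are Čech-acyclic
-/

set_option autoImplicit false

universe u

open CategoryTheory CategoryTheory.Limits Opposite TopologicalSpace

namespace Groth.Agent.Lib.Helper22.Cech

variable {X : TopCat.{u}}

section thin

variable (P : (Opens X)ᵒᵖ ⥤ AddCommGrpCat.{u})

/-- Restriction for presheaves on a space. -/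
noncomputable abbrev rsp {V W : Opens X} (h : W ≤ V) : P.obj (op V) ⟶ P.obj (op W) :=
  P.map (homOfLE h).op

lemma rsp_rsp {V W W' : Opens X} (h : W ≤ V) (h' : W' ≤ W) (s : P.obj (op V)) :
    rsp P h' (rsp P h s) = rsp P (h'.trans h) s := by
  unfold rsp
  rw [← ConcreteCategory.comp_apply, ← P.map_comp]
  rfl

lemma rsp_self {V : Opens X} (h : V ≤ V) (s : P.obj (op V)) : rsp P h s = s := by
  unfold rsp
  have : (homOfLE h).op = 𝟙 (op V) := rfl
  rw [this, P.map_id]
  rfl

lemma map_eq_rsp {V W : Opens X} (f : W ⟶ V) : P.map f.op = rsp P (leOfHom f) := by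
  unfold rsp
  congr 2

lemma rsp_naturality {Q : (Opens X)ᵒᵖ ⥤ AddCommGrpCat.{u}} (f : P ⟶ Q) {V W : Opens X}
    (h : W ≤ V) (s : P.obj (op V)) : rsp Q h (f.app (op V) s) = f.app (op W) (rsp P h s) := by
  unfold rsp
  exact (NatTrans.naturality_apply f (homOfLE h).op s).symm

end thin

variable {ι : Type u} (U : ι → Opens X)

lemma Uσ_le {n : ℕ} (σ : Fin (n + 1) → ι) (j : Fin (n + 1)) : Uσ U σ ≤ U (σ j) :=
  leOfHom (Pi.π (U ∘ σ) j)

lemma le_Uσ {n : ℕ} (σ : Fin (n + 1) → ι) {V : Opens X} (h : ∀ j, V ≤ U (σ j)) : V ≤ Uσ U σ :=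
  leOfHom (Pi.lift fun j => homOfLE (h j))

lemma Uσ_le_iSup {n : ℕ} (σ : Fin (n + 1) → ι) : Uσ U σ ≤ iSup U :=
  (Uσ_le U σ 0).trans (le_iSup U _)

lemma Uσ_eq_iInf {n : ℕ} (σ : Fin (n + 1) → ι) : Uσ U σ = iInf fun k => U (σ k) :=
  le_antisymm (le_iInf fun k => Uσ_le U σ k) (le_Uσ U σ fun j => iInf_le _ j)

variable (P : (Opens X)ᵒᵖ ⥤ AddCommGrpCat.{u})

/-- Transport of components along an equality of index tuples. -/
lemma rsp_proj_congr {n : ℕ} {σ τ : Fin (n + 1) → ι} (e : σ = τ) {V : Opens X}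
    (hσ : V ≤ Uσ U σ) (hτ : V ≤ Uσ U τ) (x : (CK U P).X n) :
    rsp P hσ (proj U P n σ x) = rsp P hτ (proj U P n τ x) := by
  subst e
  rfl

/-- The cochain of restrictions of a section over the union. -/
noncomputable def resCochain (s : P.obj (op (iSup U))) (n : ℕ) : (CK U P).X n :=
  mk U P fun σ => rsp P (Uσ_le_iSup U σ) s

@[simp]
lemma proj_resCochain (s : P.obj (op (iSup U))) (n : ℕ) (σ : Fin (n + 1) → ι) :
    proj U P n σ (resCochain U P s n) = rsp P (Uσ_le_iSup U σ) s := by
  unfold resCochain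
  rw [proj_mk]

lemma d_resCochain_zero (s : P.obj (op (iSup U))) :
    (CK U P).d 0 1 (resCochain U P s 0) = 0 := by
  apply ext_proj
  intro σ
  rw [proj_d, Fin.sum_univ_two, map_zero]
  rw [proj_resCochain, proj_resCochain, map_eq_rsp, map_eq_rsp, rsp_rsp, rsp_rsp]
  simp

lemma cmap_resCochain {Q : (Opens X)ᵒᵖ ⥤ AddCommGrpCat.{u}} (f : P ⟶ Q)
    (s : P.obj (op (iSup U))) (n : ℕ) :
    cmap U f n (resCochain U P s n) = resCochain U Q (f.app (op (iSup U)) s) n := by
  apply ext_proj
  intro σ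
  rw [proj_map, proj_resCochain, proj_resCochain, rsp_naturality]

/-- The two-index tuple. -/
def pair (i j : ι) : Fin 2 → ι := ![i, j]

/-- The constant one-index tuple. -/
def single (i : ι) : Fin 1 → ι := fun _ => i

lemma pair_comp_zero (i j : ι) : pair i j ∘ (0 : Fin 2).succAbove = single j := by
  funext k
  fin_cases k
  rfl

lemma pair_comp_one (i j : ι) : pair i j ∘ (1 : Fin 2).succAbove = single i := by
  funext k
  fin_cases k
  rfl

lemma eq_single (σ : Fin 1 → ι) : σ = single (σ 0) := by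
  funext k
  fin_cases k
  rfl

lemma le_Uσ_single (i : ι) : U i ≤ Uσ U (single i) := le_Uσ U _ fun _ => le_rfl

lemma inf_le_Uσ_pair (i j : ι) : U i ⊓ U j ≤ Uσ U (pair i j) :=
  le_Uσ U _ fun k => by
    fin_cases k
    · exact inf_le_left
    · exact inf_le_right

/-- The cocycle condition for a `0`-cochain, in terms of restrictions to `U i ⊓ U j`. -/
lemma cocycle_zero_iff_aux (a : (CK U P).X 0) (ha : (CK U P).d 0 1 a = 0) (i j : ι) :
    rsp P ((inf_le_left : U i ⊓ U j ≤ U i).trans (le_Uσ_single U i)) (proj U P 0 (single i) a) =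
      rsp P ((inf_le_right : U i ⊓ U j ≤ U j).trans (le_Uσ_single U j))
        (proj U P 0 (single j) a) := by
  have h := congrArg (fun x => rsp P (inf_le_Uσ_pair U i j) (proj U P 1 (pair i j) x)) ha
  simp only [map_zero] at h
  rw [proj_d, Fin.sum_univ_two, map_add, map_zsmul, map_zsmul, map_eq_rsp, map_eq_rsp,
    rsp_rsp, rsp_rsp] at h
  have h0 := rsp_proj_congr U P (pair_comp_zero i j)
    ((inf_le_Uσ_pair U i j).trans (leOfHom (face U (pair i j) 0)))
    ((inf_le_right : U i ⊓ U j ≤ U j).trans (le_Uσ_single U j)) a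
  have h1 := rsp_proj_congr U P (pair_comp_one i j)
    ((inf_le_Uσ_pair U i j).trans (leOfHom (face U (pair i j) 1)))
    ((inf_le_left : U i ⊓ U j ≤ U i).trans (le_Uσ_single U i)) a
  rw [h0, h1] at h
  simp only [Fin.val_zero, pow_zero, one_smul, Fin.val_one, pow_one, neg_smul] at h
  exact (add_neg_eq_zero.mp h).symm

/-- A Čech `0`-cocycle of a sheaf glues to a section over the union. -/
theorem exists_section_of_cocycle (Q : CohTop.Ab X) (a : (CK U Q.obj).X 0)
    (ha : (CK U Q.obj).d 0 1 a = 0) :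
    ∃ s : Q.obj.obj (op (iSup U)), resCochain U Q.obj s 0 = a := by
  let sf : ∀ i, ToType (Q.obj.obj (op (U i))) := fun i =>
    rsp Q.obj (le_Uσ_single U i) (proj U Q.obj 0 (single i) a)
  have hc : TopCat.Presheaf.IsCompatible Q.obj U sf := by
    intro i j
    have h := cocycle_zero_iff_aux U Q.obj a ha i j
    change rsp Q.obj inf_le_left (sf i) = rsp Q.obj inf_le_right (sf j)
    rw [rsp_rsp, rsp_rsp]
    exact h
  obtain ⟨s, hs, -⟩ := TopCat.Sheaf.existsUnique_gluing' (F := Q) U (iSup U)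
    (fun i => homOfLE (le_iSup U i)) le_rfl sf hc
  refine ⟨s, ?_⟩
  apply ext_proj
  intro σ
  rw [proj_resCochain]
  have h1 : rsp Q.obj (Uσ_le_iSup U σ) s =
      rsp Q.obj (Uσ_le U σ 0) (rsp Q.obj (le_iSup U (σ 0)) s) := by rw [rsp_rsp]
  have h2 : rsp Q.obj (le_iSup U (σ 0)) s = sf (σ 0) := hs (σ 0)
  rw [h1, h2]
  change rsp Q.obj _ (rsp Q.obj _ (proj U Q.obj 0 (single (σ 0)) a)) = _
  rw [rsp_rsp]
  have h3 := rsp_proj_congr U Q.obj (eq_single σ) (le_refl (Uσ U σ))
    ((Uσ_le U σ 0).trans (le_Uσ_single U (σ 0))) a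
  rw [← h3, rsp_self]

/-- The underlying presheaf of an injective sheaf is an injective presheaf. -/
instance injective_obj_of_injective (I : CohTop.Ab X) [Injective I] :
    Injective (C := (Opens X)ᵒᵖ ⥤ AddCommGrpCat.{u}) I.obj :=
  Injective.injective_of_adjoint
    (sheafificationAdjunction (Opens.grothendieckTopology X) AddCommGrpCat.{u}) I

lemma acyc_of_injective_sheaf (I : CohTop.Ab X) [Injective I] (n : ℕ) : Acyc U I.obj n :=
  acyc_of_injective U I.obj n

/-- Sectionwise exactness of a short exact sequence of sheaves, given surjectivity on the nerve. -/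
lemma secExact_of_shortExact (S : ShortComplex (CohTop.Ab X)) (hS : S.ShortExact)
    (hsurj : ∀ (n : ℕ) (σ : Fin (n + 1) → ι),
      Function.Surjective (S.g.hom.app (op (Uσ U σ)))) :
    SecExact U S.f.hom S.g.hom where
  inj n σ := by
    have := hS.mono_f
    exact CohTop.injective_app_of_mono S.f _
  surj := hsurj
  zero n σ x := by
    have h := S.zero
    have h2 : (S.f ≫ S.g).hom.app (op (Uσ U σ)) x = 0 := by
      rw [h]
      rfl
    exact h2
  exact n σ y hy := by
    have := hS.mono_f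
    exact TopCat.Sheaf.sections_exact_of_left_exact hS.1 this y hy

/-- Sectionwise exactness of a short exact sequence of sheaves with flasque kernel. -/
lemma secExact_of_shortExact_flasque (S : ShortComplex (CohTop.Ab X)) (hS : S.ShortExact)
    [TopCat.Sheaf.IsFlasque S.X₁] : SecExact U S.f.hom S.g.hom :=
  secExact_of_shortExact U S hS fun n σ => by
    have : Epi (S.g.1.app (op (Uσ U σ))) := TopCat.Sheaf.IsFlasque.epi_of_shortExact hS
    exact (AddCommGrpCat.epi_iff_surjective _).mp this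

/-- Flasque sheaves are Čech-acyclic (cocycle form). -/
theorem acyc_of_flasque (n : ℕ) :
    ∀ (F : CohTop.Ab X) [TopCat.Sheaf.IsFlasque F], Acyc U F.obj n := by
  induction n with
  | zero =>
    intro F _
    have hS := CohTop.injSC_shortExact F
    have : TopCat.Sheaf.IsFlasque (CohTop.injSC F).X₁ := ‹_›
    have hse := secExact_of_shortExact_flasque U (CohTop.injSC F) hS
    refine hse.acyc_sub_zero (acyc_of_injective_sheaf U (CohTop.injSC F).X₂ 0) ?_
    intro a'' ha''
    obtain ⟨s'', hs''⟩ := exists_section_of_cocycle U (CohTop.injSC F).X₃ a'' ha''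
    have hepi : Epi ((CohTop.injSC F).g.1.app (op (iSup U))) :=
      TopCat.Sheaf.IsFlasque.epi_of_shortExact hS
    obtain ⟨s, hs⟩ := (AddCommGrpCat.epi_iff_surjective _).mp hepi s''
    refine ⟨resCochain U (CohTop.injSC F).X₂.obj s 0, d_resCochain_zero U _ s, ?_⟩
    rw [cmap_resCochain]
    rw [← hs''] 
    congr 1
  | succ n ih =>
    intro F _
    have hS := CohTop.injSC_shortExact F
    have : TopCat.Sheaf.IsFlasque (CohTop.injSC F).X₁ := ‹_›
    have hse := secExact_of_shortExact_flasque U (CohTop.injSC F) hS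
    exact hse.acyc_sub_succ n (acyc_of_injective_sheaf U (CohTop.injSC F).X₂ (n + 1))
      (ih (CohTop.injSC F).X₃)

/-- Flasque sheaves are Čech-acyclic. -/
theorem isZero_cechH_succ_of_flasque (F : CohTop.Ab X) [TopCat.Sheaf.IsFlasque F] (p : ℕ) :
    IsZero (CohTop.cechH F.obj U (p + 1)) :=
  (isZero_homology_succ_iff_acyc U F.obj p).2 (acyc_of_flasque U p F)

/-- Sectionwise left exactness of a short exact sequence of sheaves. -/
lemma secLeftExact_of_shortExact (S : ShortComplex (CohTop.Ab X)) (hS : S.ShortExact) :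
    SecLeftExact U S.f.hom S.g.hom where
  inj n σ := by
    have := hS.mono_f
    exact CohTop.injective_app_of_mono S.f _
  zero n σ x := by
    have h := S.zero
    have h2 : (S.f ≫ S.g).hom.app (op (Uσ U σ)) x = 0 := by
      rw [h]
      rfl
    exact h2
  exact n σ y hy := by
    have := hS.mono_f
    exact TopCat.Sheaf.sections_exact_of_left_exact hS.1 this y hy

/-- Sections of a sheaf over the union are determined by their restriction cochain. -/
lemma resCochain_zero_injective (Q : CohTop.Ab X) (s s' : Q.obj.obj (op (iSup U)))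
    (h : resCochain U Q.obj s 0 = resCochain U Q.obj s' 0) : s = s' := by
  refine TopCat.Sheaf.eq_of_locally_eq' Q U (iSup U) (fun i => homOfLE (le_iSup U i)) le_rfl s s' ?_
  intro i
  have h1 := congrArg (fun x => rsp Q.obj (le_Uσ_single U i) (proj U Q.obj 0 (single i) x)) h
  simp only [proj_resCochain] at h1
  rw [rsp_rsp, rsp_rsp] at h1
  exact h1

/-- The `Ȟ¹` criterion: if the kernel of a short exact sequence of sheaves has vanishing first Čech
cohomology for the family `U`, a section of the quotient over the union that lifts locally on the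
`U i` lifts globally. -/
theorem exists_lift_of_acyc_zero (S : ShortComplex (CohTop.Ab X)) (hS : S.ShortExact)
    (hacyc : Acyc U S.X₁.obj 0) (t : S.X₃.obj.obj (op (iSup U)))
    (hloc : ∀ i, ∃ s : S.X₂.obj.obj (op (U i)),
      S.g.hom.app (op (U i)) s = rsp S.X₃.obj (le_iSup U i) t) :
    ∃ s, S.g.hom.app (op (iSup U)) s = t := by
  choose sl hsl using hloc
  have hle := secLeftExact_of_shortExact U S hS
  let a : (CK U S.X₂.obj).X 0 := mk U S.X₂.obj fun σ => rsp S.X₂.obj (Uσ_le U σ 0) (sl (σ 0))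
  have ha : cmap U S.g.hom 0 a = resCochain U S.X₃.obj t 0 := by
    apply ext_proj
    intro σ
    rw [proj_map, proj_mk, ← rsp_naturality, hsl, rsp_rsp, proj_resCochain]
  have hd : (CK U S.X₃.obj).d 0 1 (cmap U S.g.hom 0 a) = 0 := by
    rw [ha, d_resCochain_zero]
  obtain ⟨a', ha'1, ha'2⟩ := hle.exists_cocycle_lift hacyc a hd
  obtain ⟨s, hs⟩ := exists_section_of_cocycle U S.X₂ a' ha'1
  refine ⟨s, ?_⟩
  apply resCochain_zero_injective U S.X₃
  rw [← cmap_resCochain, hs, ha'2, ha]

end Groth.Agent.Lib.Helper22.Cech
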