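import Groth.Agent.Lib.Helper22.Cech.Top

/-!
# Cartan's criterion: Čech-acyclic for all families implies acyclic
-/

set_option autoImplicit false

universe u

open CategoryTheory CategoryTheory.Limits Opposite TopologicalSpace Abelian

namespace Groth.Agent.Lib.Helper22.Cech

variable {X : TopCat.{u}}

/-- Variant of `exists_lift_of_acyc_zero` for an open that is propositionally the union. -/
theorem exists_lift_of_acyc_zero' (S : ShortComplex (CohTop.Ab X)) (hS : S.ShortExact)
    {κ : Type u} (W : κ → Opens X) (U : Opens X) (hW : iSup W = U)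
    (hacyc : Acyc W S.X₁.obj 0) (t : S.X₃.obj.obj (op U))
    (hloc : ∀ k, ∃ (hk : W k ≤ U) (s : S.X₂.obj.obj (op (W k))),
      S.g.hom.app (op (W k)) s = rsp S.X₃.obj hk t) :
    ∃ s, S.g.hom.app (op U) s = t := by
  subst hW
  apply exists_lift_of_acyc_zero W S hS hacyc t
  intro k
  obtain ⟨hk, s, hs⟩ := hloc k
  exact ⟨s, hs⟩

/-- If the kernel of a short exact sequence of sheaves has vanishing first Čech cohomology for every
family of opens, then the sequence is exact on sections over every open. -/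
theorem surjective_of_forall_acyc_zero (S : ShortComplex (CohTop.Ab X)) (hS : S.ShortExact)
    (hacyc : ∀ (ι : Type u) (V : ι → Opens X), Acyc V S.X₁.obj 0) (U : Opens X) :
    Function.Surjective (S.g.hom.app (op U)) := by
  classical
  intro t
  have hls := (TopCat.Sheaf.isLocallySurjective_iff_epi S.g).mpr hS.epi_g
  have hloc := (TopCat.Presheaf.isLocallySurjective_iff S.g.hom).mp hls U t
  choose V hVU hs hxV using hloc
  let Vf : U → Opens X := fun x => V x.1 x.2
  have hV : iSup Vf = U :=
    le_antisymm (iSup_le fun x => hVU x.1 x.2)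
      (fun x hx => Opens.mem_iSup.mpr ⟨⟨x, hx⟩, hxV x hx⟩)
  apply exists_lift_of_acyc_zero' S hS Vf U hV (hacyc _ Vf) t
  intro k
  exact ⟨hVU k.1 k.2, hs k.1 k.2⟩

/-- The class of sheaves that are Čech-acyclic for every family of opens. -/
def CechAcyclic (F : CohTop.Ab X) : Prop :=
  ∀ (ι : Type u) (V : ι → Opens X) (p : ℕ), Acyc V F.obj p

lemma CechAcyclic.secExact {F : CohTop.Ab X} (hF : CechAcyclic F) {ι : Type u}
    (V : ι → Opens X) :
    SecExact V (CohTop.injSC F).f.hom (CohTop.injSC F).g.hom :=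
  secExact_of_shortExact V _ (CohTop.injSC_shortExact F) fun _ _ =>
    surjective_of_forall_acyc_zero (CohTop.injSC F) (CohTop.injSC_shortExact F)
      (fun ι V => hF ι V 0) _

lemma CechAcyclic.quot {F : CohTop.Ab X} (hF : CechAcyclic F) :
    CechAcyclic (CohTop.injSC F).X₃ := by
  intro ι V p
  exact (hF.secExact V).acyc_quot p (acyc_of_injective_sheaf V (CohTop.injSC F).X₂ p)
    (hF ι V (p + 1))

theorem ext_succ_eq_zero_of_cechAcyclic (n : ℕ) :
    ∀ (F : CohTop.Ab X) (_ : CechAcyclic F) (U : Opens X) (x : Ext (CohTop.ZU U) F (n + 1)),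
      x = 0 := by
  induction n with
  | zero =>
    intro F hF U x
    have hS := CohTop.injSC_shortExact F
    have h0 : x.comp (Ext.mk₀ (CohTop.injSC F).f) (add_zero 1) = 0 := Ext.eq_zero_of_injective _
    obtain ⟨x₃, hx₃⟩ := Ext.covariant_sequence_exact₁ _ hS x h0 (zero_add 1)
    have hsurj := surjective_of_forall_acyc_zero (CohTop.injSC F) hS (fun ι V => hF ι V 0) U
    obtain ⟨t, ht⟩ := hsurj (CohTop.homEquivSections U _ (Ext.homEquiv₀ x₃))
    have hz : (Ext.mk₀ ((CohTop.homEquivSections U (CohTop.injSC F).X₂).symm t)).comp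
        (Ext.mk₀ (CohTop.injSC F).g) (add_zero 0) = x₃ := by
      rw [Ext.mk₀_comp_mk₀]
      have : (CohTop.homEquivSections U (CohTop.injSC F).X₂).symm t ≫ (CohTop.injSC F).g =
          Ext.homEquiv₀ x₃ := by
        apply (CohTop.homEquivSections U (CohTop.injSC F).X₃).injective
        rw [CohTop.homEquivSections_naturality_right, Equiv.apply_symm_apply]
        exact ht
      rw [this, Ext.mk₀_homEquiv₀_apply]
    rw [← hx₃, ← hz, Ext.comp_assoc_of_second_deg_zero, hS.comp_extClass, Ext.comp_zero]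
  | succ n ih =>
    intro F hF U x
    have hS := CohTop.injSC_shortExact F
    have h0 : x.comp (Ext.mk₀ (CohTop.injSC F).f) (add_zero (n + 1 + 1)) = 0 :=
      Ext.eq_zero_of_injective _
    obtain ⟨x₃, hx₃⟩ := Ext.covariant_sequence_exact₁ _ hS x h0 (n₀ := n + 1) rfl
    rw [← hx₃, ih (CohTop.injSC F).X₃ hF.quot U x₃, Ext.zero_comp]

/-- Cartan's criterion. -/
theorem subsingleton_HU_succ_of_cechAcyclic (F : CohTop.Ab X)
    (h : ∀ (ι : Type u) (U : ι → Opens X) (p : ℕ), IsZero (CohTop.cechH F.obj U (p + 1)))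
    (U : Opens X) (p : ℕ) : Subsingleton (CohTop.HU F (p + 1) U) :=
  subsingleton_of_forall_eq 0 fun x =>
    ext_succ_eq_zero_of_cechAcyclic p F
      (fun ι V q => (isZero_homology_succ_iff_acyc V F.obj q).1 (h ι V q)) U x

end Groth.Agent.Lib.Helper22.Cech
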