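import Groth.Agent.Lib.Helper22.Cech.LES
import Groth.Agent.Lib.Helper22.Cech.Cartan
import Groth.Agent.Lib.Helper22.ExtCompare

/-!
# Leray's theorem: Čech cohomology of an acyclic cover computes cohomology
-/

set_option autoImplicit false

universe u

open CategoryTheory CategoryTheory.Limits Opposite TopologicalSpace Abelian

namespace Groth.Agent.Lib.Helper22.Cech

variable {X : TopCat.{u}} {ι : Type u} (U : ι → Opens X)

section H0

variable (P : (Opens X)ᵒᵖ ⥤ AddCommGrpCat.{u})

/-- The restriction cochain as a morphism. -/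
noncomputable def resHom (n : ℕ) : P.obj (op (iSup U)) ⟶ (CK U P).X n :=
  Pi.lift fun σ => rsp P (Uσ_le_iSup U σ)

lemma resHom_apply (n : ℕ) (s : P.obj (op (iSup U))) :
    resHom U P n s = resCochain U P s n := by
  apply ext_proj
  intro σ
  rw [proj_resCochain]
  have := ConcreteCategory.congr_hom
    (Pi.lift_π (fun σ : Fin (n + 1) → ι => rsp P (Uσ_le_iSup U σ)) σ) s
  rw [ConcreteCategory.comp_apply] at this
  exact this

lemma resHom_d : resHom U P 0 ≫ (CK U P).d 0 1 = 0 := by
  ext s
  rw [ConcreteCategory.comp_apply, resHom_apply, d_resCochain_zero]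
  rfl

lemma resHom_naturality {Q : (Opens X)ᵒᵖ ⥤ AddCommGrpCat.{u}} (f : P ⟶ Q) (n : ℕ) :
    resHom U P n ≫ ((cechComplexFunctor U).map f).f n = f.app (op (iSup U)) ≫ resHom U Q n := by
  ext s
  rw [ConcreteCategory.comp_apply, ConcreteCategory.comp_apply, resHom_apply, resHom_apply]
  exact cmap_resCochain U P f s n

/-- The map from sections over the union to `Ȟ⁰`. -/
noncomputable def toH0 : P.obj (op (iSup U)) ⟶ (CK U P).homology 0 :=
  (CK U P).liftCycles (resHom U P 0) 1 (by simp) (resHom_d U P) ≫ (CK U P).homologyπ 0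

lemma toH0_naturality {Q : (Opens X)ᵒᵖ ⥤ AddCommGrpCat.{u}} (f : P ⟶ Q) :
    toH0 U P ≫ HomologicalComplex.homologyMap ((cechComplexFunctor U).map f) 0 =
      f.app (op (iSup U)) ≫ toH0 U Q := by
  unfold toH0
  rw [Category.assoc, HomologicalComplex.homologyπ_naturality, ← Category.assoc,
    HomologicalComplex.liftCycles_comp_cyclesMap, ← Category.assoc]
  congr 1
  rw [← cancel_mono ((CK U Q).iCycles 0)]
  simp only [HomologicalComplex.liftCycles_i, Category.assoc]
  exact resHom_naturality U P f 0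

end H0

/-- For a sheaf, sections over the union are `Ȟ⁰`. -/
lemma toH0_bijective (Q : CohTop.Ab X) : Function.Bijective (toH0 U Q.obj) := by
  have hi : Function.Injective ((CK U Q.obj).iCycles 0) :=
    (AddCommGrpCat.mono_iff_injective _).1 inferInstance
  have hl : ∀ s, (CK U Q.obj).iCycles 0
      ((CK U Q.obj).liftCycles (resHom U Q.obj 0) 1 (by simp) (resHom_d U Q.obj) s) =
        resCochain U Q.obj s 0 := by
    intro s
    rw [← ConcreteCategory.comp_apply, HomologicalComplex.liftCycles_i, resHom_apply]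
  have h1 : Function.Bijective
      ((CK U Q.obj).liftCycles (resHom U Q.obj 0) 1 (by simp) (resHom_d U Q.obj)) := by
    constructor
    · intro s s' hss'
      apply resCochain_zero_injective U Q
      rw [← hl, ← hl, hss']
    · intro z
      have hz : (CK U Q.obj).d 0 1 ((CK U Q.obj).iCycles 0 z) = 0 := by
        rw [← ConcreteCategory.comp_apply, HomologicalComplex.iCycles_d]
        rfl
      obtain ⟨s, hs⟩ := exists_section_of_cocycle U Q _ hz
      refine ⟨s, ?_⟩
      apply hi
      rw [hl, hs]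
  have h2 : Function.Bijective ((CK U Q.obj).homologyπ 0) :=
    ConcreteCategory.bijective_of_isIso _
  have h3 : ⇑(ConcreteCategory.hom (toH0 U Q.obj)) =
      ⇑(ConcreteCategory.hom ((CK U Q.obj).homologyπ 0)) ∘
        ⇑(ConcreteCategory.hom ((CK U Q.obj).liftCycles (resHom U Q.obj 0) 1 (by simp)
          (resHom_d U Q.obj))) := by
    funext s
    exact ConcreteCategory.comp_apply _ _ s
  rw [h3]
  exact h2.comp h1

section ExtSide

variable (S : ShortComplex (CohTop.Ab X)) (hS : S.ShortExact) (V : Opens X)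

/-- `Q(V) → Ext¹(ℤ_V, F)`. -/
noncomputable def extδ : S.X₃.obj.obj (op V) →+ Ext (CohTop.ZU V) S.X₁ 1 :=
  (hS.extClass.postcomp (CohTop.ZU V) (zero_add 1)).comp
    ((Ext.addEquiv₀ (X := CohTop.ZU V) (Y := S.X₃)).symm.toAddMonoidHom.comp
      (CohTop.homAddEquivSections V S.X₃).symm.toAddMonoidHom)

lemma extδ_apply (t : S.X₃.obj.obj (op V)) :
    extδ S hS V t =
      (Ext.mk₀ ((CohTop.homEquivSections V S.X₃).symm t)).comp hS.extClass (zero_add 1) := rfl

lemma extδ_surjective (h1 : ∀ x : Ext (CohTop.ZU V) S.X₂ 1, x = 0) :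
    Function.Surjective (extδ S hS V) := by
  intro x
  obtain ⟨x₃, hx₃⟩ := Ext.covariant_sequence_exact₁ (CohTop.ZU V) hS x (h1 _) (zero_add 1)
  refine ⟨CohTop.homEquivSections V S.X₃ (Ext.homEquiv₀ x₃), ?_⟩
  rw [extδ_apply, Equiv.symm_apply_apply, Ext.mk₀_homEquiv₀_apply, hx₃]

lemma extδ_eq_zero_iff (t : S.X₃.obj.obj (op V)) :
    extδ S hS V t = 0 ↔ ∃ s, S.g.hom.app (op V) s = t := by
  rw [extδ_apply]
  constructor
  · intro h
    obtain ⟨x₂, hx₂⟩ := Ext.covariant_sequence_exact₃ (CohTop.ZU V) hS _ (zero_add 1) h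
    refine ⟨CohTop.homEquivSections V S.X₂ (Ext.homEquiv₀ x₂), ?_⟩
    have h2 : Ext.homEquiv₀ x₂ ≫ S.g = (CohTop.homEquivSections V S.X₃).symm t := by
      apply (Ext.mk₀_bijective _ _).1
      rw [← hx₂, ← Ext.mk₀_comp_mk₀, Ext.mk₀_homEquiv₀_apply]
    have h3 := CohTop.homEquivSections_naturality_right V (Ext.homEquiv₀ x₂) S.g
    rw [h2, Equiv.apply_symm_apply] at h3
    exact h3.symm
  · rintro ⟨s, rfl⟩
    have h3 := CohTop.homEquivSections_naturality_right V
      ((CohTop.homEquivSections V S.X₂).symm s) S.g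
    rw [Equiv.apply_symm_apply] at h3
    have h4 : (CohTop.homEquivSections V S.X₃).symm (S.g.hom.app (op V) s) =
        (CohTop.homEquivSections V S.X₂).symm s ≫ S.g := by
      rw [← h3, Equiv.symm_apply_apply]
    rw [h4, ← Ext.mk₀_comp_mk₀, Ext.comp_assoc_of_second_deg_zero, hS.comp_extClass,
      Ext.comp_zero]

include hS in
/-- If `H¹(V, F) = 0` then sections over `V` of a short exact sequence with kernel `F` are exact. -/
lemma surjective_of_ext_one_eq_zero (h : ∀ x : Ext (CohTop.ZU V) S.X₁ 1, x = 0) :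
    Function.Surjective (S.g.hom.app (op V)) := fun t =>
  (extδ_eq_zero_iff S hS V t).1 (h _)

end ExtSide

/-- Two surjections with the same kernel have isomorphic targets. -/
lemma nonempty_addEquiv_of_surjective_of_ker_eq {A T T' : Type u} [AddCommGroup A]
    [AddCommGroup T] [AddCommGroup T'] (a : A →+ T) (a' : A →+ T')
    (ha : Function.Surjective a) (ha' : Function.Surjective a')
    (hk : ∀ t, a t = 0 ↔ a' t = 0) : Nonempty (T ≃+ T') := by
  have hker : a.ker = a'.ker := by
    ext t
    exact hk t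
  exact ⟨(QuotientAddGroup.quotientKerEquivOfSurjective a ha).symm.trans
    ((QuotientAddGroup.quotientAddEquivOfEq hker).trans
      (QuotientAddGroup.quotientKerEquivOfSurjective a' ha'))⟩

/-- The Leray hypothesis: higher cohomology of `F` vanishes on all finite intersections. -/
def LerayGood (F : CohTop.Ab X) : Prop :=
  ∀ (n : ℕ) (σ : Fin (n + 1) → ι) (q : ℕ) (x : Ext (CohTop.ZU (Uσ U σ)) F (q + 1)), x = 0

lemma w_injSC (F : CohTop.Ab X) : (CohTop.injSC F).f.hom ≫ (CohTop.injSC F).g.hom = 0 :=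
  congrArg (fun φ => φ.hom) (CohTop.injSC F).zero

variable {U}

lemma LerayGood.secExact {F : CohTop.Ab X} (hF : LerayGood U F) :
    SecExact U (CohTop.injSC F).f.hom (CohTop.injSC F).g.hom :=
  secExact_of_shortExact U _ (CohTop.injSC_shortExact F) fun n σ =>
    surjective_of_ext_one_eq_zero (CohTop.injSC F) (CohTop.injSC_shortExact F) _ (hF n σ 0)

lemma LerayGood.quot {F : CohTop.Ab X} (hF : LerayGood U F) :
    LerayGood U (CohTop.injSC F).X₃ := by
  intro n σ q x
  have e := ExtCompare.shiftEquiv (CohTop.injSC_shortExact F) (CohTop.ZU (Uσ U σ)) q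
    (fun y => Ext.eq_zero_of_injective y) (fun y => Ext.eq_zero_of_injective y)
  apply e.injective
  rw [map_zero]
  exact hF n σ (q + 1) _

variable (U)

theorem nonempty_cech_addEquiv_ext_zero (F : CohTop.Ab X) :
    Nonempty ((CK U F.obj).homology 0 ≃+ Ext (CohTop.ZU (iSup U)) F 0) :=
  ⟨(AddEquiv.ofBijective (toH0 U F.obj).hom (toH0_bijective U F)).symm.trans
    ((CohTop.homAddEquivSections (iSup U) F).symm.trans Ext.addEquiv₀.symm)⟩

theorem nonempty_cech_addEquiv_ext_succ (p : ℕ) :
    ∀ F : CohTop.Ab X, LerayGood U F →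
      Nonempty ((CK U F.obj).homology (p + 1) ≃+ Ext (CohTop.ZU (iSup U)) F (p + 1)) := by
  induction p with
  | zero =>
    intro F hF
    have hS := CohTop.injSC_shortExact F
    have hse := hF.secExact
    have hI1 : IsZero ((CK U (CohTop.injSC F).X₂.obj).homology 1) :=
      isZero_homology_succ_of_injective U _ 0
    let a : (CohTop.injSC F).X₃.obj.obj (op (iSup U)) →+ (CK U F.obj).homology 1 :=
      (δ₀ (w_injSC F) hse).comp (toH0 U (CohTop.injSC F).X₃.obj).hom
    refine nonempty_addEquiv_of_surjective_of_ker_eq a (extδ (CohTop.injSC F) hS (iSup U)) ?_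
      (extδ_surjective _ hS _ (fun x => Ext.eq_zero_of_injective x)) ?_
    · exact (δ₀_surjective _ hse hI1).comp (toH0_bijective U _).2
    · intro t
      rw [extδ_eq_zero_iff]
      change δ₀ _ hse (toH0 U _ t) = 0 ↔ _
      rw [δ₀_eq_zero_iff]
      constructor
      · rintro ⟨y, hy⟩
        obtain ⟨s, rfl⟩ := (toH0_bijective U (CohTop.injSC F).X₂).2 y
        refine ⟨s, ?_⟩
        apply (toH0_bijective U (CohTop.injSC F).X₃).1
        rw [← hy]
        have := ConcreteCategory.congr_hom (toH0_naturality U _ (CohTop.injSC F).g.hom) s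
        rw [ConcreteCategory.comp_apply, ConcreteCategory.comp_apply] at this
        exact this.symm
      · rintro ⟨s, rfl⟩
        refine ⟨toH0 U _ s, ?_⟩
        have := ConcreteCategory.congr_hom (toH0_naturality U _ (CohTop.injSC F).g.hom) s
        rw [ConcreteCategory.comp_apply, ConcreteCategory.comp_apply] at this
        exact this
  | succ p ih =>
    intro F hF
    have hS := CohTop.injSC_shortExact F
    have hse := hF.secExact
    obtain ⟨e1⟩ := nonempty_homology_succ_addEquiv (w_injSC F) hse p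
      (isZero_homology_succ_of_injective U _ p) (isZero_homology_succ_of_injective U _ (p + 1))
    obtain ⟨e2⟩ := ih (CohTop.injSC F).X₃ hF.quot
    have e3 := ExtCompare.shiftEquiv hS (CohTop.ZU (iSup U)) p
      (fun y => Ext.eq_zero_of_injective y) (fun y => Ext.eq_zero_of_injective y)
    exact ⟨e1.symm.trans (e2.trans e3)⟩

/-- **Leray's theorem.** -/
theorem nonempty_cechH_addEquiv_HU (F : CohTop.Ab X)
    (h : ∀ (p : ℕ) (a : Fin (p + 1) → ι) (q : ℕ),
      Subsingleton (CohTop.HU F (q + 1) (iInf fun k => U (a k))))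
    (p : ℕ) : Nonempty (CohTop.cechH F.obj U p ≃+ CohTop.HU F p (iSup U)) := by
  have hF : LerayGood U F := by
    intro n σ q x
    have := h n σ q
    rw [← Uσ_eq_iInf] at this
    exact Subsingleton.elim (α := CohTop.HU F (q + 1) (Uσ U σ)) x 0
  cases p with
  | zero => exact nonempty_cech_addEquiv_ext_zero U F
  | succ p => exact nonempty_cech_addEquiv_ext_succ U p F hF

end Groth.Agent.Lib.Helper22.Cech
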