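import Groth.Agent.Lib.Helper22.Cech.AffineVanishing
import Groth.Agent.Lib.Helper22.Cech.Leray
import Groth.Agent.Lib.Helper22.CohTop.Restrict
import Groth.Prelude.Def_CohB1

/-!
# Čech cohomology computes cohomology of quasi-coherent modules for coverings with affine
intersections
-/

set_option autoImplicit false
set_option linter.unusedSectionVars false

universe u

open TopCat AlgebraicGeometry TopologicalSpace CategoryTheory CategoryTheory.Limits Opposite Abelian

namespace Groth.Agent.Lib.Helper22.Cech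

open _root_.Groth.Agent.Lib.Helper22.CohTop _root_.Groth.Agent.Lib.Helper22.ExtCompare

section general

variable {X : TopCat.{u}}

/-- `Γ(⊤, G) = Γ(X, G)`, as an identification of `Ext⁰` groups. -/
noncomputable def deg0Top :
    Deg0Iso (𝟭 (CohTop.Ab X)) (ZU (⊤ : Opens X)) (constZ X) where
  e G := Ext.addEquiv₀.trans ((homAddEquivSections (⊤ : Opens X) G).trans
    (Sheaf.H.equiv₀ G (isTerminalTop : IsTerminal (⊤ : Opens X))).symm)
  nat {G G'} g x := by
    obtain ⟨φ, rfl⟩ := Ext.addEquiv₀.symm.surjective x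
    have h2 := Sheaf.H.equiv₀_symm_naturality
      (hT := (isTerminalTop : IsTerminal (⊤ : Opens X))) g (homEquivSections (⊤ : Opens X) G φ)
    rw [Sheaf.H.map_apply] at h2
    have h3 : Ext.addEquiv₀ ((Ext.addEquiv₀.symm φ).comp (Ext.mk₀ g) (add_zero 0)) = φ ≫ g := by
      change Ext.addEquiv₀ ((Ext.mk₀ φ).comp (Ext.mk₀ g) (add_zero 0)) = φ ≫ g
      rw [Ext.mk₀_comp_mk₀]
      exact Ext.addEquiv₀.apply_symm_apply _
    simp only [AddEquiv.trans_apply, AddEquiv.apply_symm_apply, homAddEquivSections_apply]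
    rw [h3, homEquivSections_naturality_right]
    exact h2.symm

/-- `H^n(⊤, F) ≅ H^n(X, F)`. -/
theorem nonempty_HU_top_addEquiv_H (F : CohTop.Ab X) (n : ℕ) :
    Nonempty (CohTop.HU F n ⊤ ≃+ CohTop.H F n) := by
  refine nonempty_ext_addEquiv (deg0Top (X := X)) (fun _ => True) ?_ ?_ ?_ n F trivial
  · intro F _
    exact (ExtCompare.injSC_shortExact F).map_of_exact (𝟭 _)
  · intro _ _
    trivial
  · intro F _ n x
    have : Injective ((𝟭 (CohTop.Ab X)).obj (ExtCompare.injSC F).X₂) :=
      inferInstanceAs (Injective (ExtCompare.injSC F).X₂)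
    exact Ext.eq_zero_of_injective x

end general

section scheme

variable (X : Scheme.{u}) (M : X.Modules) [M.IsQuasicoherent]

/-- Higher cohomology of a quasi-coherent module over an affine open vanishes. -/
theorem subsingleton_HU_succ_of_isAffineOpen (V : X.Opens) (hV : IsAffineOpen V) (q : ℕ) :
    Subsingleton (CohTop.HU (Coh.toAb M) (q + 1) V) := by
  obtain ⟨e⟩ := nonempty_HU_addEquiv_H_restr (X := X.carrier) V (Coh.toAb M) (q + 1)
  have : IsAffine V.toScheme := hV
  have h1 : Subsingleton (Coh.HH V.toScheme (M.restrict V.ι) (q + 1)) :=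
    subsingleton_HH_succ_of_isAffine V.toScheme (M.restrict V.ι) q
  have e2 : CohTop.restr (Coh.toAb M) V ≅ Coh.toAb (M.restrict V.ι) :=
    (fullyFaithfulSheafToPresheaf _ _).preimageIso (Iso.refl _)
  have h2 := subsingleton_H_of_iso e2 (q + 1) h1
  exact e.toEquiv.subsingleton

/-- **Čech cohomology computes cohomology** for coverings with affine finite intersections. -/
theorem nonempty_cechH_addEquiv_HH {ι : Type u} (U : ι → X.Opens) (hcov : ⨆ i, U i = ⊤)
    (hU : ∀ s : Finset ι, s.Nonempty → IsAffineOpen (⨅ i ∈ s, U i)) (p : ℕ) :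
    Nonempty (↑(CohB1.cechH U M p) ≃+ Coh.HH X M p) := by
  classical
  have h : ∀ (p : ℕ) (a : Fin (p + 1) → ι) (q : ℕ),
      Subsingleton (CohTop.HU (Coh.toAb M) (q + 1) (iInf fun k => U (a k))) := by
    intro p a q
    apply subsingleton_HU_succ_of_isAffineOpen
    have hs : (Finset.univ.image a).Nonempty := ⟨a 0, Finset.mem_image_of_mem a (Finset.mem_univ 0)⟩
    have he : (⨅ i ∈ Finset.univ.image a, U i) = iInf fun k => U (a k) := by
      apply le_antisymm
      · refine le_iInf fun k => ?_
        exact iInf₂_le (a k) (Finset.mem_image_of_mem a (Finset.mem_univ k))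
      · refine le_iInf₂ fun i hi => ?_
        obtain ⟨k, -, rfl⟩ := Finset.mem_image.mp hi
        exact iInf_le _ k
    rw [← he]
    exact hU _ hs
  obtain ⟨e1⟩ := nonempty_cechH_addEquiv_HU (X := X.carrier) U (Coh.toAb M) h p
  obtain ⟨e2⟩ := nonempty_HU_top_addEquiv_H (X := X.carrier) (Coh.toAb M) p
  have hcov' : iSup U = ⊤ := hcov
  rw [hcov'] at e1
  exact ⟨e1.trans e2⟩

end scheme

end Groth.Agent.Lib.Helper22.Cech
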