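import Groth.Agent.Lib.Helper22.Cech.SchemeLeray
import Groth.Agent.Lib.Helper22.CohTop.Pushforward

/-!
# Higher direct images of quasi-coherent modules along affine morphisms vanish
-/

set_option autoImplicit false
set_option linter.unusedSectionVars false

universe u

open TopCat AlgebraicGeometry TopologicalSpace CategoryTheory CategoryTheory.Limits Opposite Abelian

namespace Groth.Agent.Lib.Helper22.Cech

open _root_.Groth.Agent.Lib.Helper22.CohTop _root_.Groth.Agent.Lib.Helper22.ExtCompare

section general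

variable {X Y : TopCat.{u}} (f : X ⟶ Y)

/-- Abstract vanishing criterion for higher direct images. -/
theorem isZero_Rpush_succ_of_class (𝒞 : CohTop.Ab X → Prop)
    (hepi : ∀ F, 𝒞 F → Epi ((CohTop.push f).map (CohTop.injSC F).g))
    (hquot : ∀ F, 𝒞 F → 𝒞 (CohTop.injSC F).X₃) (q : ℕ) :
    ∀ F, 𝒞 F → IsZero ((CohTop.Rpush f (q + 1)).obj F) := by
  induction q with
  | zero =>
    intro F hF
    exact (DimShift.isZero_rightDerived_one_iff (CohTop.push f) (CohTop.injSC F)
      (CohTop.injSC_shortExact F)).2 (hepi F hF)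
  | succ q ih =>
    intro F hF
    exact (DimShift.isZero_rightDerived_succ_succ_iff (CohTop.push f) (CohTop.injSC F)
      (CohTop.injSC_shortExact F) q).2 (ih (CohTop.injSC F).X₃ (hquot F hF))

/-- The class of sheaves acyclic on the preimages of the opens in `B`. -/
def PreimageAcyclic (B : Set (Opens Y)) (F : CohTop.Ab X) : Prop :=
  ∀ V ∈ B, ∀ (q : ℕ) (x : Ext (ZU ((Opens.map f).obj V)) F (q + 1)), x = 0

lemma PreimageAcyclic.quot {B : Set (Opens Y)} {F : CohTop.Ab X} (hF : PreimageAcyclic f B F) :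
    PreimageAcyclic f B (CohTop.injSC F).X₃ := by
  intro V hV q x
  have e := ExtCompare.shiftEquiv (CohTop.injSC_shortExact F) (ZU ((Opens.map f).obj V)) q
    (fun y => Ext.eq_zero_of_injective y) (fun y => Ext.eq_zero_of_injective y)
  apply e.injective
  rw [map_zero]
  exact hF V hV (q + 1) _

lemma PreimageAcyclic.epi {B : Set (Opens Y)} (hB : Opens.IsBasis B) {F : CohTop.Ab X}
    (hF : PreimageAcyclic f B F) : Epi ((CohTop.push f).map (CohTop.injSC F).g) := by
  refine (TopCat.Sheaf.isLocallySurjective_iff_epi ((CohTop.push f).map (CohTop.injSC F).g)).mp ?_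
  rw [TopCat.Presheaf.isLocallySurjective_iff]
  intro V' t y hy
  obtain ⟨V, hVB, hyV, hVV'⟩ := (Opens.isBasis_iff_nbhd.mp hB) hy
  refine ⟨V, hVV', ?_, hyV⟩
  exact surjective_of_ext_one_eq_zero (CohTop.injSC F) (CohTop.injSC_shortExact F)
    ((Opens.map f).obj V) (hF V hVB 0) _

/-- If `F` is acyclic on the preimages of a basis of `Y`, its higher direct images vanish. -/
theorem isZero_Rpush_succ_of_preimageAcyclic {B : Set (Opens Y)} (hB : Opens.IsBasis B)
    (F : CohTop.Ab X) (hF : PreimageAcyclic f B F) (q : ℕ) :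
    IsZero ((CohTop.Rpush f (q + 1)).obj F) :=
  isZero_Rpush_succ_of_class f (PreimageAcyclic f B) (fun _ hG => hG.epi f hB)
    (fun _ hG => hG.quot f) q F hF

end general

section scheme

variable {X S : Scheme.{u}} (f : X ⟶ S) [IsAffineHom f] (M : X.Modules) [M.IsQuasicoherent]

lemma preimageAcyclic_of_isAffineHom :
    PreimageAcyclic f.base (S.affineOpens : Set S.Opens) (Coh.toAb M) := by
  intro V hV q x
  have h := subsingleton_HU_succ_of_isAffineOpen X M (f ⁻¹ᵁ V) (IsAffineOpen.preimage hV f) q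
  exact h.elim x 0

/-- **Relative affine vanishing.** -/
theorem isZero_RpushAb_succ (q : ℕ) :
    IsZero ((Coh.RpushAb f (q + 1)).obj (Coh.toAb M)) :=
  isZero_Rpush_succ_of_preimageAcyclic f.base S.isBasis_affineOpens (Coh.toAb M)
    (preimageAcyclic_of_isAffineHom f M) q

/-- Cohomology along an affine morphism. -/
theorem nonempty_HH_addEquiv_HH_push (i : ℕ) :
    Nonempty (Coh.HH X M i ≃+ Coh.HH S ((Coh.push f).obj M) i) := by
  obtain ⟨e⟩ := leray_degenerate f.base (Coh.toAb M) (fun q => isZero_RpushAb_succ f M q) i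
  exact ⟨e⟩

end scheme

end Groth.Agent.Lib.Helper22.Cech
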