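import Groth.Agent.Lib.Helper22.Cech.Cartan

/-!
# Acyclicity from Čech-acyclicity on a basis
-/

set_option autoImplicit false

universe u

open CategoryTheory CategoryTheory.Limits Opposite TopologicalSpace Abelian

namespace Groth.Agent.Lib.Helper22.Cech

variable {X : TopCat.{u}}

/-- Abstract acyclicity criterion: a class of sheaves stable under `F ↦ I(F)/F` and such that
`I(F) → I(F)/F` is surjective on sections over the opens in `B` has vanishing higher cohomology on
the opens in `B`. -/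
theorem ext_succ_eq_zero_of_class (𝒞 : CohTop.Ab X → Prop) (B : Set (Opens X))
    (hsurj : ∀ F, 𝒞 F → ∀ U ∈ B, Function.Surjective ((CohTop.injSC F).g.hom.app (op U)))
    (hquot : ∀ F, 𝒞 F → 𝒞 (CohTop.injSC F).X₃) (n : ℕ) :
    ∀ F, 𝒞 F → ∀ U ∈ B, ∀ x : Ext (CohTop.ZU U) F (n + 1), x = 0 := by
  induction n with
  | zero =>
    intro F hF U hU x
    have hS := CohTop.injSC_shortExact F
    have h0 : x.comp (Ext.mk₀ (CohTop.injSC F).f) (add_zero 1) = 0 := Ext.eq_zero_of_injective _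
    obtain ⟨x₃, hx₃⟩ := Ext.covariant_sequence_exact₁ _ hS x h0 (zero_add 1)
    obtain ⟨t, ht⟩ := hsurj F hF U hU (CohTop.homEquivSections U _ (Ext.homEquiv₀ x₃))
    have hz : (Ext.mk₀ ((CohTop.homEquivSections U (CohTop.injSC F).X₂).symm t)).comp
        (Ext.mk₀ (CohTop.injSC F).g) (add_zero 0) = x₃ := by
      rw [Ext.mk₀_comp_mk₀]
      have : (CohTop.homEquivSections U (CohTop.injSC F).X₂).symm t ≫ (CohTop.injSC F).g =
          Ext.homEquiv₀ x₃ := by
        apply (CohTop.homEquivSections U (CohTop.injSC F).X₃).injective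
        rw [CohTop.homEquivSections_naturality_right, Equiv.apply_symm_apply]
        exact ht
      rw [this, Ext.mk₀_homEquiv₀_apply]
    rw [← hx₃, ← hz, Ext.comp_assoc_of_second_deg_zero, hS.comp_extClass, Ext.comp_zero]
  | succ n ih =>
    intro F hF U hU x
    have hS := CohTop.injSC_shortExact F
    have h0 : x.comp (Ext.mk₀ (CohTop.injSC F).f) (add_zero (n + 1 + 1)) = 0 :=
      Ext.eq_zero_of_injective _
    obtain ⟨x₃, hx₃⟩ := Ext.covariant_sequence_exact₁ _ hS x h0 (n₀ := n + 1) rfl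
    rw [← hx₃, ih (CohTop.injSC F).X₃ (hquot F hF) U hU x₃, Ext.zero_comp]

variable (B : Set (Opens X)) (Cov : ∀ (ι : Type u), (ι → Opens X) → Prop)

/-- Čech-acyclicity for the families in `Cov`. -/
def CovAcyclic (F : CohTop.Ab X) : Prop :=
  ∀ (ι : Type u) (V : ι → Opens X), Cov ι V → ∀ p : ℕ, Acyc V F.obj p

variable {B Cov}
  (h1 : ∀ (ι : Type u) (V : ι → Opens X), Cov ι V →
      iSup V ∈ B ∧ ∀ (p : ℕ) (a : Fin (p + 1) → ι), (iInf fun k => V (a k)) ∈ B)
  (h2 : ∀ U ∈ B, ∀ (κ : Type u) (W : κ → Opens X), iSup W = U →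
      ∃ (ι : Type u) (V : ι → Opens X), Cov ι V ∧ iSup V = U ∧ ∀ i, ∃ k, V i ≤ W k)

include h2 in
lemma surjective_of_covAcyclic (S : ShortComplex (CohTop.Ab X)) (hS : S.ShortExact)
    (hF : CovAcyclic Cov S.X₁) (U : Opens X) (hU : U ∈ B) :
    Function.Surjective (S.g.hom.app (op U)) := by
  classical
  intro t
  have hls := (TopCat.Sheaf.isLocallySurjective_iff_epi S.g).mpr hS.epi_g
  have hloc := (TopCat.Presheaf.isLocallySurjective_iff S.g.hom).mp hls U t
  choose W hWU hs hxW using hloc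
  let Wf : U → Opens X := fun x => W x.1 x.2
  have hW : iSup Wf = U :=
    le_antisymm (iSup_le fun x => hWU x.1 x.2)
      (fun x hx => Opens.mem_iSup.mpr ⟨⟨x, hx⟩, hxW x hx⟩)
  obtain ⟨ι, V, hV, hVU, hr⟩ := h2 U hU U Wf hW
  choose r hr using hr
  apply exists_lift_of_acyc_zero' S hS V U hVU (hF ι V hV 0) t
  intro i
  obtain ⟨s, hs'⟩ := hs (r i).1 (r i).2
  refine ⟨(hr i).trans (hWU (r i).1 (r i).2), rsp S.X₂.obj (hr i) s, ?_⟩
  rw [← rsp_naturality, hs']
  exact rsp_rsp S.X₃.obj (hWU (r i).1 (r i).2) (hr i) t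

include h1 h2 in
lemma CovAcyclic.secExact {F : CohTop.Ab X} (hF : CovAcyclic Cov F) {ι : Type u}
    (V : ι → Opens X) (hV : Cov ι V) :
    SecExact V (CohTop.injSC F).f.hom (CohTop.injSC F).g.hom :=
  secExact_of_shortExact V _ (CohTop.injSC_shortExact F) fun n σ =>
    surjective_of_covAcyclic h2 (CohTop.injSC F) (CohTop.injSC_shortExact F) hF _
      (by rw [Uσ_eq_iInf]; exact (h1 ι V hV).2 n σ)

include h1 h2 in
lemma CovAcyclic.quot {F : CohTop.Ab X} (hF : CovAcyclic Cov F) :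
    CovAcyclic Cov (CohTop.injSC F).X₃ := by
  intro ι V hV p
  exact (hF.secExact h1 h2 V hV).acyc_quot p (acyc_of_injective_sheaf V (CohTop.injSC F).X₂ p)
    (hF ι V hV (p + 1))

include h1 h2 in
/-- Acyclicity on a basis from Čech-acyclicity on a cofinal system of coverings. -/
theorem subsingleton_HU_succ_of_covAcyclic (F : CohTop.Ab X)
    (h3 : ∀ (ι : Type u) (V : ι → Opens X), Cov ι V →
      ∀ p : ℕ, IsZero (CohTop.cechH F.obj V (p + 1)))
    (U : Opens X) (hU : U ∈ B) (p : ℕ) : Subsingleton (CohTop.HU F (p + 1) U) :=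
  subsingleton_of_forall_eq 0 fun x =>
    ext_succ_eq_zero_of_class (CovAcyclic Cov) B
      (fun G hG V hV => surjective_of_covAcyclic h2 (CohTop.injSC G) (CohTop.injSC_shortExact G)
        hG V hV)
      (fun _ hG => hG.quot h1 h2) p F
      (fun ι V hV q => (isZero_homology_succ_iff_acyc V F.obj q).1 (h3 ι V hV q)) U hU x

end Groth.Agent.Lib.Helper22.Cech
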