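import Groth.Agent.Lib.Helper22.Cech.AffineCech
import Groth.Agent.Lib.Helper22.Cech.Basis
import Groth.Agent.Lib.Helper22.CohTop.ClosedEmb
import Groth.Prelude.Def_Coh

/-!
# Vanishing of higher cohomology of quasi-coherent modules on affine schemes
-/

set_option autoImplicit false
set_option linter.unusedSectionVars false

universe u

open TopCat AlgebraicGeometry TopologicalSpace CategoryTheory CategoryTheory.Limits Opposite
  PrimeSpectrum Abelian

namespace Groth.Agent.Lib.Helper22.Cech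

section general

variable {X : TopCat.{u}}

/-- Abstract acyclicity criterion for `H^n(X, -)`. -/
theorem H_succ_eq_zero_of_class (𝒞 : CohTop.Ab X → Prop)
    (hsurj : ∀ F, 𝒞 F → Function.Surjective ((CohTop.injSC F).g.hom.app (op ⊤)))
    (hquot : ∀ F, 𝒞 F → 𝒞 (CohTop.injSC F).X₃) (n : ℕ) :
    ∀ F, 𝒞 F → ∀ x : CohTop.H F (n + 1), x = 0 := by
  have hT : IsTerminal (⊤ : Opens X) := isTerminalTop
  induction n with
  | zero =>
    intro F hF x
    have hS := CohTop.injSC_shortExact F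
    have h0 : x.comp (Ext.mk₀ (CohTop.injSC F).f) (add_zero 1) = 0 := Ext.eq_zero_of_injective _
    obtain ⟨x₃, hx₃⟩ := Ext.covariant_sequence_exact₁ _ hS x h0 (zero_add 1)
    obtain ⟨t, ht⟩ := hsurj F hF (Sheaf.H.equiv₀ (CohTop.injSC F).X₃ hT x₃)
    have hz : ((Sheaf.H.equiv₀ (CohTop.injSC F).X₂ hT).symm t).comp
        (Ext.mk₀ (CohTop.injSC F).g) (add_zero 0) = x₃ := by
      have h := Sheaf.H.equiv₀_symm_naturality (hT := hT) (CohTop.injSC F).g t
      rw [Sheaf.H.map_apply] at h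
      rw [h]
      apply (Sheaf.H.equiv₀ (CohTop.injSC F).X₃ hT).injective
      rw [AddEquiv.apply_symm_apply]
      exact ht
    rw [← hx₃, ← hz, Ext.comp_assoc_of_second_deg_zero, hS.comp_extClass, Ext.comp_zero]
  | succ n ih =>
    intro F hF x
    have hS := CohTop.injSC_shortExact F
    have h0 : x.comp (Ext.mk₀ (CohTop.injSC F).f) (add_zero (n + 1 + 1)) = 0 :=
      Ext.eq_zero_of_injective _
    obtain ⟨x₃, hx₃⟩ := Ext.covariant_sequence_exact₁ _ hS x h0 (n₀ := n + 1) rfl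
    rw [← hx₃, ih (CohTop.injSC F).X₃ (hquot F hF) x₃, Ext.zero_comp]

/-- Variant of `subsingleton_HU_succ_of_covAcyclic` for `H^n(X, -)` when `⊤` is in the basis. -/
theorem subsingleton_H_succ_of_covAcyclic {B : Set (Opens X)}
    {Cov : ∀ (ι : Type u), (ι → Opens X) → Prop}
    (h1 : ∀ (ι : Type u) (V : ι → Opens X), Cov ι V →
      iSup V ∈ B ∧ ∀ (p : ℕ) (a : Fin (p + 1) → ι), (iInf fun k => V (a k)) ∈ B)
    (h2 : ∀ U ∈ B, ∀ (κ : Type u) (W : κ → Opens X), iSup W = U →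
      ∃ (ι : Type u) (V : ι → Opens X), Cov ι V ∧ iSup V = U ∧ ∀ i, ∃ k, V i ≤ W k)
    (F : CohTop.Ab X)
    (h3 : ∀ (ι : Type u) (V : ι → Opens X), Cov ι V →
      ∀ p : ℕ, IsZero (CohTop.cechH F.obj V (p + 1)))
    (hB : (⊤ : Opens X) ∈ B) (p : ℕ) : Subsingleton (CohTop.H F (p + 1)) :=
  subsingleton_of_forall_eq 0 fun x =>
    H_succ_eq_zero_of_class (CovAcyclic Cov)
      (fun G hG => surjective_of_covAcyclic h2 (CohTop.injSC G) (CohTop.injSC_shortExact G)
        hG ⊤ hB)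
      (fun _ hG => hG.quot h1 h2) p F
      (fun ι V hV q => (isZero_homology_succ_iff_acyc V F.obj q).1 (h3 ι V hV q)) x

end general

namespace Affine

variable {R : CommRingCat.{u}}

/-- The class of standard coverings of basic opens. -/
def StdCov (ι : Type u) (V : ι → Opens (Spec R)) : Prop :=
  Finite ι ∧ ∃ (f : ι → R) (g : R), V = fam f ∧ (∀ i, D (f i) ≤ D g) ∧ D g ≤ ⨆ i, D (f i)

lemma stdCov_h1 (ι : Type u) (V : ι → Opens (Spec R)) (hV : StdCov ι V) :
    iSup V ∈ Set.range (D : R → Opens (Spec R)) ∧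
      ∀ (p : ℕ) (a : Fin (p + 1) → ι), (iInf fun k => V (a k)) ∈ Set.range (D : R → _) := by
  obtain ⟨hfin, f, g, rfl, hg1, hg2⟩ := hV
  have : Fintype ι := Fintype.ofFinite ι
  refine ⟨⟨g, le_antisymm hg2 (iSup_le hg1)⟩, fun p a => ⟨∏ k, f (a k), ?_⟩⟩
  exact (iInf_D_eq f a).symm

lemma stdCov_h2 (U : Opens (Spec R)) (hU : U ∈ Set.range (D : R → Opens (Spec R)))
    (κ : Type u) (W : κ → Opens (Spec R)) (hW : iSup W = U) :
    ∃ (ι : Type u) (V : ι → Opens (Spec R)), StdCov ι V ∧ iSup V = U ∧ ∀ i, ∃ k, V i ≤ W k := by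
  classical
  obtain ⟨g, rfl⟩ := hU
  -- for each point of `D g` choose a basic open neighbourhood inside some `W k`
  have hpt : ∀ x : D g, ∃ (k : κ) (r : R), (x : Spec R) ∈ D r ∧ D r ≤ W k := by
    intro x
    have hx : (x : Spec R) ∈ iSup W := by
      rw [hW]
      exact x.2
    obtain ⟨k, hk⟩ := Opens.mem_iSup.mp hx
    obtain ⟨_, ⟨r, rfl⟩, hxr, hr⟩ :=
      (Opens.isBasis_iff_nbhd.mp (isBasis_basic_opens (R := R))) hk
    exact ⟨k, r, hxr, hr⟩
  choose kf rf hxr hrW using hpt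
  have hcomp : IsCompact ((D g : Opens (Spec R)) : Set (Spec R)) := isCompact_basicOpen g
  have hcov : ((D g : Opens (Spec R)) : Set (Spec R)) ⊆
      ⋃ x : D g, ((D (rf x) : Opens (Spec R)) : Set (Spec R)) :=
    fun y hy => Set.mem_iUnion.mpr ⟨⟨y, hy⟩, hxr ⟨y, hy⟩⟩
  obtain ⟨t, ht⟩ := hcomp.elim_finite_subcover
    (fun x : D g => ((D (rf x) : Opens (Spec R)) : Set (Spec R)))
    (fun x => (D (rf x)).isOpen) hcov
  have hle : ∀ x : D g, D (rf x) ≤ D g := fun x => by
    rw [← hW]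
    exact (hrW x).trans (le_iSup W (kf x))
  refine ⟨t, fun i => D (rf i.1), ⟨inferInstance, fun i => rf i.1, g, rfl, fun i => hle i.1, ?_⟩,
    ?_, fun i => ⟨kf i.1, hrW i.1⟩⟩
  · intro y hy
    obtain ⟨x, hx⟩ := Set.mem_iUnion.mp (ht hy)
    obtain ⟨hxt, hyx⟩ := Set.mem_iUnion.mp hx
    exact Opens.mem_iSup.mpr ⟨⟨x, hxt⟩, hyx⟩
  · apply le_antisymm (iSup_le fun i : t => hle i.1)
    intro y hy
    obtain ⟨x, hx⟩ := Set.mem_iUnion.mp (ht hy)
    obtain ⟨hxt, hyx⟩ := Set.mem_iUnion.mp hx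
    exact Opens.mem_iSup.mpr ⟨⟨x, hxt⟩, hyx⟩

lemma stdCov_h3 (M : (Spec R).Modules) (hM : IsLocalizing (modulesSpecToSheaf.obj M))
    (ι : Type u) (V : ι → Opens (Spec R)) (hV : StdCov ι V) (p : ℕ) :
    IsZero (CohTop.cechH (Coh.toAb M).obj V (p + 1)) := by
  obtain ⟨hfin, f, g, rfl, hg1, hg2⟩ := hV
  have : Fintype ι := Fintype.ofFinite ι
  exact (isZero_homology_succ_iff_acyc (fam f) M.presheaf p).2
    (acyc_of_isLocalizing f hM g hg1 hg2 p)

/-- Higher cohomology of a quasi-coherent module on `Spec R` vanishes. -/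
theorem subsingleton_H_succ_Spec (M : (Spec R).Modules) [M.IsQuasicoherent] (p : ℕ) :
    Subsingleton (Coh.HH (Spec R) M (p + 1)) := by
  have hM : IsLocalizing (modulesSpecToSheaf.obj M) :=
    (isIso_fromTildeΓ_iff_isLocalizing M).1 inferInstance
  exact subsingleton_H_succ_of_covAcyclic (X := (Spec R).carrier) stdCov_h1 stdCov_h2
    (Coh.toAb M) (stdCov_h3 M hM) ⟨1, basicOpen_one⟩ p

end Affine

section transport

/-- Cohomology only depends on the isomorphism class of the sheaf. -/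
lemma subsingleton_H_of_iso {X : TopCat.{u}} {F G : CohTop.Ab X} (e : F ≅ G) (n : ℕ)
    (h : Subsingleton (CohTop.H G n)) : Subsingleton (CohTop.H F n) := by
  refine ⟨fun x y => ?_⟩
  have hx : ∀ z : CohTop.H F n, Sheaf.H.map e.inv n (Sheaf.H.map e.hom n z) = z := by
    intro z
    rw [← Sheaf.H.map_comp_apply, e.hom_inv_id, Sheaf.H.map_id_apply]
  rw [← hx x, ← hx y, h.elim (Sheaf.H.map e.hom n x) (Sheaf.H.map e.hom n y)]

variable (X : Scheme.{u}) [IsAffine X] (M : X.Modules)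

lemma preimage_isoSpec_hom_eq (W : (Spec Γ(X, ⊤)).Opens) :
    (Opens.map X.isoSpec.hom.base).obj W = X.isoSpec.inv ''ᵁ W := by
  ext x
  constructor
  · intro hx
    refine ⟨X.isoSpec.hom.base x, hx, ?_⟩
    have := congrArg (fun φ => φ.base x) X.isoSpec.hom_inv_id
    exact this
  · rintro ⟨y, hy, rfl⟩
    have := congrArg (fun φ => φ.base y) X.isoSpec.inv_hom_id
    change X.isoSpec.hom.base (X.isoSpec.inv.base y) ∈ W
    have h2 : X.isoSpec.hom.base (X.isoSpec.inv.base y) = y := this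
    rw [h2]
    exact hy

/-- The pushforward of the underlying abelian sheaf along `X ≅ Spec Γ(X, ⊤)` is the underlying
abelian sheaf of the restriction along the inverse. -/
noncomputable def pushIsoRestrict :
    (CohTop.push X.isoSpec.hom.base).obj (Coh.toAb M) ≅ Coh.toAb (M.restrict X.isoSpec.inv) :=
  (fullyFaithfulSheafToPresheaf _ _).preimageIso
    (NatIso.ofComponents
      (fun W => M.presheaf.mapIso (eqToIso (congrArg op (preimage_isoSpec_hom_eq X W.unop))))
      (by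
        intro W W' i
        change M.presheaf.map _ ≫ M.presheaf.map _ = M.presheaf.map _ ≫ M.presheaf.map _
        rw [← M.presheaf.map_comp, ← M.presheaf.map_comp]
        congr 1))

/-- **Serre vanishing on affine schemes.** -/
theorem subsingleton_HH_succ_of_isAffine [M.IsQuasicoherent] (p : ℕ) :
    Subsingleton (Coh.HH X M (p + 1)) := by
  have hce : Topology.IsClosedEmbedding X.isoSpec.hom.base :=
    (TopCat.homeoOfIso (Scheme.forgetToTop.mapIso X.isoSpec)).isClosedEmbedding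
  obtain ⟨e⟩ := CohTop.cohomology_closedEmbedding X.isoSpec.hom.base hce (Coh.toAb M) (p + 1)
  have h1 : Subsingleton (CohTop.H (Coh.toAb (M.restrict X.isoSpec.inv)) (p + 1)) :=
    Affine.subsingleton_H_succ_Spec (M.restrict X.isoSpec.inv) p
  have h2 := subsingleton_H_of_iso (pushIsoRestrict X M) (p + 1) h1
  exact e.toEquiv.subsingleton

end transport

end Groth.Agent.Lib.Helper22.Cech
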