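import Groth.Agent.Lib.Helper22.Cech.FreeNerve

/-!
# Čech cohomology of an injective presheaf vanishes in positive degrees
-/

set_option autoImplicit false

universe u u'

open CategoryTheory CategoryTheory.Limits Opposite

namespace Groth.Agent.Lib.Helper22.Cech

section general

/-- A short complex of functors to an abelian category is exact if it is objectwise exact. -/
lemma exact_of_forall_evaluation {D : Type u'} [Category.{u} D]
    (S : ShortComplex (D ⥤ AddCommGrpCat.{u}))
    (h : ∀ d : D, (S.map ((evaluation D AddCommGrpCat.{u}).obj d)).Exact) : S.Exact := by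
  rw [ShortComplex.exact_iff_isZero_homology, Functor.isZero_iff]
  intro d
  have e := S.mapHomologyIso ((evaluation D AddCommGrpCat.{u}).obj d)
  have hz := (ShortComplex.exact_iff_isZero_homology _).1 (h d)
  exact hz.of_iso e.symm

end general

variable {C : Type u'} [Category.{u} C] [HasFiniteProducts C] {ι : Type u} (U : ι → C)

section
variable {P : Cᵒᵖ ⥤ AddCommGrpCat.{u}}

/-- The Čech cochain of a morphism `K n ⟶ P`. -/
noncomputable def cochain {n : ℕ} (f : K U n ⟶ P) : (CK U P).X n := mk U P (comp f)

@[simp] lemma proj_cochain {n : ℕ} (f : K U n ⟶ P) (σ : Fin (n + 1) → ι) :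
    proj U P n σ (cochain U f) = comp f σ := proj_mk U P _ σ

lemma d_cochain {n : ℕ} (f : K U n ⟶ P) :
    (CK U P).d n (n + 1) (cochain U f) = cochain U (bdry U n ≫ f) := by
  apply ext_proj
  intro σ
  rw [proj_d, proj_cochain, comp_bdry]
  refine Finset.sum_congr rfl fun k _ => ?_
  rw [proj_cochain]

lemma cochain_ofComp {n : ℕ} (x : (CK U P).X n) :
    cochain U (ofComp U P (fun σ => proj U P n σ x)) = x := by
  apply ext_proj
  intro σ
  rw [proj_cochain, comp_ofComp]

lemma comp_zero' {n : ℕ} (σ : Fin (n + 1) → ι) : comp (0 : K U n ⟶ P) σ = 0 := rfl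

lemma cochain_injective {n : ℕ} (f g : K U n ⟶ P) (h : cochain U f = cochain U g) : f = g := by
  apply hom_ext_comp
  intro σ
  rw [← proj_cochain, ← proj_cochain, h]

lemma cochain_zero {n : ℕ} : cochain U (0 : K U n ⟶ P) = 0 := by
  apply ext_proj
  intro σ
  rw [proj_cochain, map_zero]
  rfl

end

lemma bdry_comp_bdry (n : ℕ) : bdry U (n + 1) ≫ bdry U n = 0 := by
  have h : ∀ f : K U n ⟶ K U n, bdry U (n + 1) ≫ bdry U n ≫ f = 0 := by
    intro f
    apply cochain_injective
    rw [← d_cochain, ← d_cochain, d_d, cochain_zero]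
  have := h (𝟙 _)
  rw [Category.comp_id] at this
  exact this

/-- `K (n+2) ⟶ K (n+1) ⟶ K n` is exact. -/
lemma exact_K (n : ℕ) : (ShortComplex.mk (bdry U (n + 1)) (bdry U n) (bdry_comp_bdry U n)).Exact := by
  apply exact_of_forall_evaluation
  intro V
  rw [ShortComplex.ab_exact_iff]
  intro z hz
  obtain ⟨V⟩ := V
  exact exists_bdry_eq U n z hz

/-- **Čech cohomology of an injective presheaf vanishes in positive degrees.** -/
theorem isZero_homology_succ_of_injective (I : Cᵒᵖ ⥤ AddCommGrpCat.{u}) [Injective I] (n : ℕ) :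
    IsZero ((CK U I).homology (n + 1)) := by
  rw [isZero_homology_succ_iff]
  intro x hx
  let f : K U (n + 1) ⟶ I := ofComp U I (fun σ => proj U I (n + 1) σ x)
  have hfx : cochain U f = x := cochain_ofComp U x
  have hf : bdry U (n + 1) ≫ f = 0 := by
    apply cochain_injective
    rw [← d_cochain, hfx, hx, cochain_zero]
  let g : K U n ⟶ I := (exact_K U n).descToInjective f hf
  have hg : bdry U n ≫ g = f := (exact_K U n).comp_descToInjective f hf
  refine ⟨cochain U g, ?_⟩
  rw [d_cochain, hg, hfx]

end Groth.Agent.Lib.Helper22.Cech
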