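import Mathlib

/-!
# Restriction of presheaves of abelian groups to an over category preserves injectives

For an object `U` of a category `C`, restriction of presheaves along `Over.forget U` has an exact left
adjoint, `(L A)(W) = ⨁_{f : W ⟶ U} A(W, f)`; we construct just enough of it to show that restriction
preserves injective objects.
-/

set_option autoImplicit false

universe u u'

open CategoryTheory CategoryTheory.Limits Opposite DirectSum

noncomputable section

open scoped Classical

namespace Groth.Agent.Lib.Helper22.Cech.OverInj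

variable {C : Type u'} [Category.{u} C] {U : C}

section L

variable (A : (Over U)ᵒᵖ ⥤ AddCommGrpCat.{u})

/-- The family of summands over `W`. -/
abbrev fam (W : C) : (W ⟶ U) → Type u := fun f => A.obj (op (Over.mk f))

/-- The value of `L A` at `W`. -/
abbrev LObj (W : C) : Type u := ⨁ f : W ⟶ U, fam A W f

/-- The transition map of `L A` along `g : W' ⟶ W`. -/
def LMap {W W' : C} (g : W' ⟶ W) : LObj A W →+ LObj A W' :=
  DirectSum.toAddMonoid fun f =>
    (DirectSum.of (fam A W') (g ≫ f)).comp
      (A.map (Over.homMk g rfl : Over.mk (g ≫ f) ⟶ Over.mk f).op).hom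

lemma LMap_of {W W' : C} (g : W' ⟶ W) (f : W ⟶ U) (x : fam A W f) :
    LMap A g (DirectSum.of (fam A W) f x) =
      DirectSum.of (fam A W') (g ≫ f)
        (A.map (Over.homMk g rfl : Over.mk (g ≫ f) ⟶ Over.mk f).op x) := by
  unfold LMap
  rw [DirectSum.toAddMonoid_of]
  rfl

/-- Transport of generators along an equality of structure maps. -/
lemma of_congr {W : C} {d : Over U} {f₁ f₂ : W ⟶ U} (h : f₁ = f₂) (ψ₁ : Over.mk f₁ ⟶ d)
    (ψ₂ : Over.mk f₂ ⟶ d) (hψ : ψ₁.left = ψ₂.left) (x : A.obj (op d)) :
    DirectSum.of (fam A W) f₁ (A.map ψ₁.op x) = DirectSum.of (fam A W) f₂ (A.map ψ₂.op x) := by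
  subst h
  have : ψ₁ = ψ₂ := Over.OverMorphism.ext hψ
  rw [this]

/-- The presheaf `L A` on `C`. -/
def L : Cᵒᵖ ⥤ AddCommGrpCat.{u} where
  obj W := AddCommGrpCat.of (LObj A W.unop)
  map g := AddCommGrpCat.ofHom (LMap A g.unop)
  map_id W := by
    apply AddCommGrpCat.hom_ext
    apply DirectSum.addHom_ext
    intro f x
    change LMap A (𝟙 W.unop) (DirectSum.of (fam A W.unop) f x) = DirectSum.of (fam A W.unop) f x
    rw [LMap_of]
    have h := of_congr A (Category.id_comp f) (Over.homMk (𝟙 W.unop) rfl) (𝟙 (Over.mk f)) rfl x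
    rw [h, op_id, A.map_id]
    rfl
  map_comp {W W' W''} g h := by
    apply AddCommGrpCat.hom_ext
    apply DirectSum.addHom_ext
    intro f x
    change LMap A (h.unop ≫ g.unop) (DirectSum.of (fam A W.unop) f x) =
      LMap A h.unop (LMap A g.unop (DirectSum.of (fam A W.unop) f x))
    rw [LMap_of, LMap_of, LMap_of]
    have h' := of_congr A (Category.assoc h.unop g.unop f)
      (Over.homMk (h.unop ≫ g.unop) rfl : Over.mk ((h.unop ≫ g.unop) ≫ f) ⟶ Over.mk f)
      ((Over.homMk h.unop rfl : Over.mk (h.unop ≫ g.unop ≫ f) ⟶ Over.mk (g.unop ≫ f)) ≫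
        (Over.homMk g.unop rfl : Over.mk (g.unop ≫ f) ⟶ Over.mk f)) rfl x
    rw [h', op_comp, A.map_comp]
    rfl

end L

section maps

variable {A B : (Over U)ᵒᵖ ⥤ AddCommGrpCat.{u}} (m : A ⟶ B)

/-- `L` on morphisms. -/
def Lmap : L A ⟶ L B where
  app W := AddCommGrpCat.ofHom
    (DirectSum.map fun f : W.unop ⟶ U => (m.app (op (Over.mk f))).hom)
  naturality {W W'} g := by
    apply AddCommGrpCat.hom_ext
    apply DirectSum.addHom_ext
    intro f x
    change DirectSum.map (fun f : W'.unop ⟶ U => (m.app (op (Over.mk f))).hom)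
        (LMap A g.unop (DirectSum.of (fam A W.unop) f x)) =
      LMap B g.unop (DirectSum.map (fun f : W.unop ⟶ U => (m.app (op (Over.mk f))).hom)
        (DirectSum.of (fam A W.unop) f x))
    rw [LMap_of, DirectSum.map_of, DirectSum.map_of, LMap_of]
    congr 1
    exact NatTrans.naturality_apply m _ x

lemma mono_Lmap [Mono m] : Mono (Lmap m) := by
  have hm : ∀ d, Mono (m.app d) := fun d => inferInstance
  have : ∀ W, Mono ((Lmap m).app W) := by
    intro W
    rw [AddCommGrpCat.mono_iff_injective]
    change Function.Injective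
      (DirectSum.map fun f : W.unop ⟶ U => (m.app (op (Over.mk f))).hom)
    rw [DirectSum.map_injective]
    intro f
    exact (AddCommGrpCat.mono_iff_injective _).1 (hm _)
  exact NatTrans.mono_of_mono_app _

end maps

section adj

variable {A B : (Over U)ᵒᵖ ⥤ AddCommGrpCat.{u}} (I : Cᵒᵖ ⥤ AddCommGrpCat.{u})

/-- The restriction of a presheaf to the over category. -/
abbrev res : (Over U)ᵒᵖ ⥤ AddCommGrpCat.{u} := (Over.forget U).op ⋙ I

variable {I}

/-- The transpose of a morphism `A ⟶ res I`. -/
def sharp (a : A ⟶ res (U := U) I) : L A ⟶ I where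
  app W := AddCommGrpCat.ofHom (DirectSum.toAddMonoid fun f : W.unop ⟶ U =>
    ((a.app (op (Over.mk f))).hom : A.obj (op (Over.mk f)) →+ I.obj W))
  naturality {W W'} g := by
    apply AddCommGrpCat.hom_ext
    apply DirectSum.addHom_ext
    intro f x
    change DirectSum.toAddMonoid (fun f : W'.unop ⟶ U =>
        ((a.app (op (Over.mk f))).hom : A.obj (op (Over.mk f)) →+ I.obj W'))
        (LMap A g.unop (DirectSum.of (fam A W.unop) f x)) =
      I.map g (DirectSum.toAddMonoid (fun f : W.unop ⟶ U =>
        ((a.app (op (Over.mk f))).hom : A.obj (op (Over.mk f)) →+ I.obj W))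
        (DirectSum.of (fam A W.unop) f x))
    rw [LMap_of, DirectSum.toAddMonoid_of, DirectSum.toAddMonoid_of]
    exact NatTrans.naturality_apply a
      (Over.homMk g.unop rfl : Over.mk (g.unop ≫ f) ⟶ Over.mk f).op x

/-- The transpose of a morphism `L B ⟶ I`. -/
def flat (b : L B ⟶ I) : B ⟶ res (U := U) I where
  app d := AddCommGrpCat.ofHom
    ((b.app (op d.unop.left)).hom.comp (DirectSum.of (fam B d.unop.left) d.unop.hom))
  naturality {d d'} φ := by
    apply AddCommGrpCat.hom_ext
    ext x
    change (b.app (op d'.unop.left)).hom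
        (DirectSum.of (fam B d'.unop.left) d'.unop.hom (B.map φ x)) =
      I.map φ.unop.left.op ((b.app (op d.unop.left)).hom
        (DirectSum.of (fam B d.unop.left) d.unop.hom x))
    have h1 := NatTrans.naturality_apply b φ.unop.left.op
      (DirectSum.of (fam B d.unop.left) d.unop.hom x)
    rw [← h1]
    congr 1
    change _ = LMap B φ.unop.left (DirectSum.of (fam B d.unop.left) d.unop.hom x)
    rw [LMap_of]
    exact of_congr B (Over.w φ.unop).symm φ.unop
      (Over.homMk φ.unop.left rfl : Over.mk (φ.unop.left ≫ d.unop.hom) ⟶ d.unop) rfl x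

lemma sharp_app_of (a : A ⟶ res (U := U) I) (W : Cᵒᵖ) (f : W.unop ⟶ U)
    (x : A.obj (op (Over.mk f))) :
    (sharp a).app W (DirectSum.of (fam A W.unop) f x) = a.app (op (Over.mk f)) x := by
  change DirectSum.toAddMonoid (fun f : W.unop ⟶ U =>
      ((a.app (op (Over.mk f))).hom : A.obj (op (Over.mk f)) →+ I.obj W))
      (DirectSum.of (fam A W.unop) f x) = (a.app (op (Over.mk f))).hom x
  rw [DirectSum.toAddMonoid_of]

lemma flat_app_apply (b : L B ⟶ I) (d : (Over U)ᵒᵖ) (x : B.obj d) :
    (flat b).app d x =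
      b.app (op d.unop.left) (DirectSum.of (fam B d.unop.left) d.unop.hom x) := rfl

lemma flat_sharp (a : A ⟶ res (U := U) I) : flat (sharp a) = a := by
  ext d x
  rw [flat_app_apply]
  exact sharp_app_of a (op d.unop.left) d.unop.hom x

lemma flat_Lmap_comp (m : A ⟶ B) (b : L B ⟶ I) : flat (Lmap m ≫ b) = m ≫ flat b := by
  ext d x
  change (b.app (op d.unop.left)).hom
      (DirectSum.map (fun f : d.unop.left ⟶ U => (m.app (op (Over.mk f))).hom)
        (DirectSum.of (fam A d.unop.left) d.unop.hom x)) =
    (b.app (op d.unop.left)).hom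
      (DirectSum.of (fam B d.unop.left) d.unop.hom (m.app d x))
  rw [DirectSum.map_of]
  rfl

end adj

/-- Restriction to the over category preserves injective presheaves. -/
instance injective_res (I : Cᵒᵖ ⥤ AddCommGrpCat.{u}) [Injective I] :
    Injective (res (U := U) I) where
  factors {A B} a m _ := by
    have := mono_Lmap m
    refine ⟨flat (Injective.factorThru (sharp a) (Lmap m)), ?_⟩
    rw [← flat_Lmap_comp, Injective.comp_factorThru, flat_sharp]

end Groth.Agent.Lib.Helper22.Cech.OverInj
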