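import Groth.Agent.Lib.Helper22.Cech.LocAcyclic

/-!
# Čech acyclicity of quasi-coherent modules on `Spec R` for standard coverings
-/

set_option autoImplicit false
set_option linter.unusedSectionVars false

universe u

open TopCat AlgebraicGeometry TopologicalSpace CategoryTheory Opposite PrimeSpectrum

namespace Groth.Agent.Lib.Helper22.Cech.Affine

variable {R : CommRingCat.{u}} (M : (Spec R).Modules)

noncomputable instance instModuleSections (V : (Opens (Spec R))ᵒᵖ) : Module R (M.presheaf.obj V) :=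
  inferInstanceAs (Module R Γ(M, V.unop))

lemma isLin : IsLin (R := R) M.presheaf := by
  intro V W h r x
  exact Scheme.Modules.map_smul_Spec (M := M) (U := W.unop) (V := V.unop) h r x

/-- `g` in the radical of the ideal generated by the `f i` when `D(g) ⊆ ⋃ D(f i)`. -/
lemma mem_radical_of_basicOpen_le {ι : Type*} (f : ι → R) (g : R)
    (h : basicOpen g ≤ ⨆ i, basicOpen (f i)) : g ∈ (Ideal.span (Set.range f)).radical := by
  have h1 : zeroLocus ((Ideal.span (Set.range f) : Ideal R) : Set R) ⊆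
      zeroLocus ((Ideal.span {g} : Ideal R) : Set R) := by
    rw [zeroLocus_span, zeroLocus_span]
    intro x hx
    rw [mem_zeroLocus, Set.singleton_subset_iff]
    by_contra hg
    have hxg : x ∈ basicOpen g := hg
    obtain ⟨i, hi⟩ := Opens.mem_iSup.mp (h hxg)
    exact hi (hx ⟨i, rfl⟩)
  have h2 := (zeroLocus_subset_zeroLocus_iff _ _).1 h1
  exact h2 (Ideal.subset_span rfl)

variable {M}

/-- The basic open `D(f)` as an open of the scheme `Spec R`. -/
abbrev D (f : R) : (Spec R).Opens := PrimeSpectrum.basicOpen f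

lemma D_mul_le_right (f h : R) : D (f * h) ≤ D h := basicOpen_mul_le_right f h

lemma D_mul_le_left (f h : R) : D (f * h) ≤ D f := basicOpen_mul_le_left f h

section loc

variable (hM : IsLocalizing (modulesSpecToSheaf.obj M))
include hM

lemma exists_global_lift (h : R) (x : Γ(M, D h)) :
    ∃ (n : ℕ) (z : Γ(M, (⊤ : (Spec R).Opens))),
      h ^ n • x = M.presheaf.map (D h).leTop.op z := by
  have := hM h
  obtain ⟨⟨z, ⟨_, n, rfl⟩⟩, hz⟩ := IsLocalizedModule.surj (.powers h)
    ((modulesSpecToSheaf.obj M).obj.map (D h).leTop.op).hom x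
  exact ⟨n, z, hz⟩

lemma exists_pow_smul_eq_zero_of_map_eq_zero (h : R) (z : Γ(M, (⊤ : (Spec R).Opens)))
    (hz : M.presheaf.map (D h).leTop.op z = 0) : ∃ k : ℕ, h ^ k • z = 0 := by
  have := hM h
  have hz' : ((modulesSpecToSheaf.obj M).obj.map (D h).leTop.op).hom z = 0 := hz
  rw [IsLocalizedModule.eq_zero_iff (.powers h)] at hz'
  obtain ⟨⟨_, k, rfl⟩, hk⟩ := hz'
  exact ⟨k, hk⟩

omit hM in
lemma exists_smul_eq (h : R) {V : (Spec R).Opens} (hV : V ≤ D h) (n : ℕ) (w : Γ(M, V)) :
    ∃ y : Γ(M, V), h ^ n • y = w := by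
  have hu := (Scheme.Modules.isUnit_algebraMap_end_of_le_basicOpen (M := M) (U := V) h hV).pow n
  rw [← map_pow, Module.End.isUnit_iff] at hu
  obtain ⟨y, hy⟩ := hu.2 w
  exact ⟨y, hy⟩

omit hM in
lemma smul_pow_injective (h : R) {V : (Spec R).Opens} (hV : V ≤ D h) (n : ℕ) (a b : Γ(M, V))
    (hab : h ^ n • a = h ^ n • b) : a = b :=
  ((Scheme.Modules.isSMulRegular_of_le_basicOpen (M := M) hV).pow n) hab

omit hM in
lemma map_map {V W W' : (Spec R).Opens} (h1 : W ≤ V) (h2 : W' ≤ W) (x : Γ(M, V)) :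
    M.presheaf.map (homOfLE h2).op (M.presheaf.map (homOfLE h1).op x) =
      M.presheaf.map (homOfLE (h2.trans h1)).op x := by
  rw [← ConcreteCategory.comp_apply, ← M.presheaf.map_comp]
  rfl

/-- Restriction from `D(h)` to `D(f h)` is surjective up to powers of `f`. -/
lemma exists_lift_basicOpen (f h : R) (x : Γ(M, D (f * h))) :
    ∃ (m : ℕ) (y : Γ(M, D h)),
      M.presheaf.map (homOfLE (D_mul_le_right f h)).op y = f ^ m • x := by
  obtain ⟨n, z, hz⟩ := exists_global_lift hM (f * h) x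
  obtain ⟨y, hy⟩ := exists_smul_eq h (le_refl (D h)) n (M.presheaf.map (D h).leTop.op z)
  refine ⟨n, y, ?_⟩
  apply smul_pow_injective h (D_mul_le_right f h) n
  rw [← Scheme.Modules.map_smul_Spec, hy, smul_smul, ← mul_pow, mul_comm h f, hz]
  exact map_map (M := M) le_top (D_mul_le_right f h) z

/-- A section over `D(h)` vanishing on `D(f h)` is killed by a power of `f`. -/
lemma exists_pow_smul_eq_zero_basicOpen (f h : R) (y : Γ(M, D h))
    (hy : M.presheaf.map (homOfLE (D_mul_le_right f h)).op y = 0) :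
    ∃ m : ℕ, f ^ m • y = 0 := by
  obtain ⟨n, z, hz⟩ := exists_global_lift hM h y
  have h1 : M.presheaf.map (D (f * h)).leTop.op z = 0 := by
    have e : M.presheaf.map (D (f * h)).leTop.op z =
        M.presheaf.map (homOfLE (D_mul_le_right f h)).op
          (M.presheaf.map (D h).leTop.op z) :=
      (map_map (M := M) le_top (D_mul_le_right f h) z).symm
    rw [e, ← hz, Scheme.Modules.map_smul_Spec, hy, smul_zero]
  obtain ⟨k, hk⟩ := exists_pow_smul_eq_zero_of_map_eq_zero hM (f * h) z h1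
  refine ⟨k, ?_⟩
  apply smul_pow_injective h (le_refl (D h)) (k + n)
  rw [smul_zero, pow_add, mul_smul, smul_comm (h ^ n) (f ^ k) y, hz, ← mul_smul,
    ← Scheme.Modules.map_smul_Spec, mul_comm, ← mul_pow, hk, map_zero]

/-- Transported version of `exists_lift_basicOpen`. -/
lemma exists_lift_of_eq (f h : R) {W W' : (Spec R).Opens} (hW : W = D h)
    (hW' : W' = D (f * h)) (hle : W' ≤ W) (x : Γ(M, W')) :
    ∃ (m : ℕ) (y : Γ(M, W)), M.presheaf.map (homOfLE hle).op y = f ^ m • x := by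
  subst hW hW'
  exact exists_lift_basicOpen hM f h x

/-- Transported version of `exists_pow_smul_eq_zero_basicOpen`. -/
lemma exists_pow_smul_eq_zero_of_eq (f h : R) {W W' : (Spec R).Opens} (hW : W = D h)
    (hW' : W' = D (f * h)) (hle : W' ≤ W) (y : Γ(M, W))
    (hy : M.presheaf.map (homOfLE hle).op y = 0) : ∃ m : ℕ, f ^ m • y = 0 := by
  subst hW hW'
  exact exists_pow_smul_eq_zero_basicOpen hM f h y hy

end loc

section family

variable {ι : Type u} [Fintype ι] (f : ι → R)

/-- The standard family of basic opens. -/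
abbrev fam : ι → Opens (Spec R) := fun i => D (f i)

lemma iInf_D_eq {n : ℕ} (σ : Fin (n + 1) → ι) :
    (iInf fun k => D (f (σ k))) = D (∏ k, f (σ k)) := by
  apply Opens.ext
  rw [Opens.coe_iInf]
  ext x
  rw [Set.mem_iInter]
  change (∀ k, f (σ k) ∉ x.asIdeal) ↔ (∏ k, f (σ k)) ∉ x.asIdeal
  rw [← not_iff_not, not_forall, not_not]
  have hp : x.asIdeal.IsPrime := x.isPrime
  constructor
  · rintro ⟨k, hk⟩
    rw [not_not] at hk
    exact Ideal.mem_of_dvd _ (Finset.dvd_prod_of_mem _ (Finset.mem_univ k)) hk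
  · intro h
    obtain ⟨k, -, hk⟩ := (hp.prod_mem_iff).1 h
    exact ⟨k, not_not.mpr hk⟩

lemma Uσ_fam_eq {n : ℕ} (σ : Fin (n + 1) → ι) : Uσ (fam f) σ = D (∏ k, f (σ k)) :=
  (Uσ_eq_iInf (fam f) σ).trans (iInf_D_eq f σ)

lemma inf_Uσ_fam_eq {n : ℕ} (σ : Fin (n + 1) → ι) (i : ι) :
    fam f i ⊓ Uσ (fam f) σ = D (f i * ∏ k, f (σ k)) := by
  rw [Uσ_fam_eq]
  exact (basicOpen_mul _ _).symm

/-- Localization data for a standard covering of `D(g)` and a localizing module. -/
theorem locData (hM : IsLocalizing (modulesSpecToSheaf.obj M)) (g : R)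
    (hg1 : ∀ i, D (f i) ≤ D g) (hg2 : D g ≤ ⨆ i, D (f i)) :
    LocData (fam f) M.presheaf f where
  lin := isLin M
  surj n σ i x :=
    exists_lift_of_eq hM (f i) (∏ k, f (σ k)) (Uσ_fam_eq f σ) (inf_Uσ_fam_eq f σ i)
      inf_le_right x
  inj n σ i y hy :=
    exists_pow_smul_eq_zero_of_eq hM (f i) (∏ k, f (σ k)) (Uσ_fam_eq f σ) (inf_Uσ_fam_eq f σ i)
      inf_le_right y hy
  pu m := by
    have hrad : g ∈ (Ideal.span (Set.range fun i => f i ^ m)).radical :=
      mem_radical_of_basicOpen_le _ g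
        (hg2.trans (iSup_mono fun i => le_basicOpen_pow (f i) m))
    obtain ⟨K, hK⟩ := hrad
    obtain ⟨a, ha⟩ := Ideal.mem_span_range_iff_exists_fun.1 hK
    refine ⟨a, fun n σ => ?_⟩
    rw [ha]
    have hle : Uσ (fam f) σ ≤ D g := (Uσ_le (fam f) σ 0).trans (hg1 _)
    have hu := (Scheme.Modules.isUnit_algebraMap_end_of_le_basicOpen (M := M) g hle).pow K
    rw [← map_pow, Module.End.isUnit_iff] at hu
    exact hu

/-- Čech acyclicity of a localizing (e.g. quasi-coherent) module for a standard covering of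
a basic open. -/
theorem acyc_of_isLocalizing (hM : IsLocalizing (modulesSpecToSheaf.obj M)) (g : R)
    (hg1 : ∀ i, D (f i) ≤ D g) (hg2 : D g ≤ ⨆ i, D (f i)) (n : ℕ) :
    Acyc (fam f) M.presheaf n :=
  (locData f hM g hg1 hg2).acyc n

end family

end Groth.Agent.Lib.Helper22.Cech.Affine
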