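import Groth.Agent.Lib.Helper22.Cech.Exact

/-!
# Evaluating Čech cochains on tuples of morphisms

For a cochain `a ∈ C^n(U, P)`, an object `V` and a tuple `t` of morphisms `V ⟶ U_{i_k}`, `ev a t ∈ P(V)`
is the restriction of the `(i_0, …, i_n)`-component of `a` along the induced map to the product.  The
differential has the expected form in terms of `ev`; this avoids all transport along equalities of index
tuples.
-/

set_option autoImplicit false

universe u u'

open CategoryTheory CategoryTheory.Limits Opposite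

namespace Groth.Agent.Lib.Helper22.Cech

set_option linter.unusedSectionVars false

variable {C : Type u'} [Category.{u} C] [HasFiniteProducts C] {ι : Type u} (U : ι → C)
  (P : Cᵒᵖ ⥤ AddCommGrpCat.{u})

/-- Evaluation of a cochain on a tuple of morphisms. -/
noncomputable def ev {n : ℕ} (a : (CK U P).X n) {V : C} (t : T U n V) : P.obj (op V) :=
  P.map (toProd U t).op (proj U P n (idx U t) a)

lemma ev_pre {n : ℕ} (a : (CK U P).X n) {V W : C} (h : W ⟶ V) (t : T U n V) :
    ev U P a (T.pre U h t) = P.map h.op (ev U P a t) := by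
  have key : ∀ (φ ψ : W ⟶ Uσ U (idx U t)), φ = ψ →
      P.map φ.op (proj U P n (idx U t) a) = P.map ψ.op (proj U P n (idx U t) a) := by
    intro φ ψ e
    rw [e]
  refine (key (toProd U (T.pre U h t)) (h ≫ toProd U t) (toProd_pre U h t)).trans ?_
  rw [op_comp, P.map_comp]
  rfl

lemma ev_can {n : ℕ} (a : (CK U P).X n) (σ : Fin (n + 1) → ι) :
    ev U P a (can U σ) = proj U P n σ a := by
  unfold ev
  rw [toProd_can]
  change P.map (𝟙 _) _ = _
  rw [P.map_id]
  rfl

lemma toProd_comp_succAbove {n : ℕ} {V : C} (t : T U (n + 1) V) (k : Fin (n + 2)) :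
    toProd U (t ∘ k.succAbove) = toProd U t ≫ face U (idx U t) k := by
  refine Pi.hom_ext (f := U ∘ (idx U t ∘ k.succAbove)) _ _ (fun j => ?_)
  have h1 : toProd U (t ∘ k.succAbove) ≫ Pi.π (U ∘ (idx U t ∘ k.succAbove)) j =
      (t (k.succAbove j)).2 := toProd_π U (t ∘ k.succAbove) j
  rw [h1, Category.assoc, face_π, toProd_π]

lemma ev_add {n : ℕ} (a b : (CK U P).X n) {V : C} (t : T U n V) :
    ev U P (a + b) t = ev U P a t + ev U P b t := by
  unfold ev
  rw [map_add, map_add]

lemma ev_zero {n : ℕ} {V : C} (t : T U n V) : ev U P (0 : (CK U P).X n) t = 0 := by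
  unfold ev
  rw [map_zero, map_zero]

lemma ev_d {n : ℕ} (a : (CK U P).X n) {V : C} (t : T U (n + 1) V) :
    ev U P ((CK U P).d n (n + 1) a) t =
      ∑ k : Fin (n + 2), (-1 : ℤ) ^ (k : ℕ) • ev U P a (t ∘ k.succAbove) := by
  unfold ev
  rw [proj_d, map_sum]
  refine Finset.sum_congr rfl fun k _ => ?_
  rw [map_zsmul, toProd_comp_succAbove, op_comp, P.map_comp]
  rfl

lemma ev_map {Q : Cᵒᵖ ⥤ AddCommGrpCat.{u}} (f : P ⟶ Q) {n : ℕ} (a : (CK U P).X n) {V : C}
    (t : T U n V) : ev U Q (cmap U f n a) t = f.app (op V) (ev U P a t) := by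
  unfold ev
  rw [proj_map]
  exact (NatTrans.naturality_apply f (toProd U t).op _).symm

/-- A one-element tuple. -/
def sing {V : C} (s : SV U V) : T U 0 V := fun _ => s

lemma eq_sing {V : C} (t : T U 0 V) : t = sing U (t 0) := by
  funext k
  fin_cases k
  rfl

lemma comp_succAbove_zero {V : C} (t : T U 1 V) : t ∘ (0 : Fin 2).succAbove = sing U (t 1) := by
  funext k
  fin_cases k
  rfl

lemma comp_succAbove_one {V : C} (t : T U 1 V) : t ∘ (1 : Fin 2).succAbove = sing U (t 0) := by
  funext k
  fin_cases k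
  rfl

/-- The cocycle condition for `0`-cochains in terms of evaluation. -/
lemma ev_d_zero (a : (CK U P).X 0) {V : C} (t : T U 1 V) :
    ev U P ((CK U P).d 0 1 a) t = ev U P a (sing U (t 1)) - ev U P a (sing U (t 0)) := by
  rw [ev_d, Fin.sum_univ_two, comp_succAbove_zero, comp_succAbove_one]
  simp [sub_eq_add_neg]

lemma pre_sing {V W : C} (h : W ⟶ V) (s : SV U V) : T.pre U h (sing U s) = sing U (SV.pre U h s) :=
  rfl

end Groth.Agent.Lib.Helper22.Cech
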