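import Groth.Agent.Lib.Helper22.Cech.Injective

/-!
# Short exact sequences of Čech complexes and diagram chases
-/

set_option autoImplicit false

universe u u'

open CategoryTheory CategoryTheory.Limits Opposite

namespace Groth.Agent.Lib.Helper22.Cech

variable {C : Type u'} [Category.{u} C] [HasFiniteProducts C] {ι : Type u} (U : ι → C)

/-- Acyclicity of the Čech complex in degree `n + 1`, in terms of cocycles. -/
def Acyc (P : Cᵒᵖ ⥤ AddCommGrpCat.{u}) (n : ℕ) : Prop :=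
  ∀ x : (CK U P).X (n + 1), (CK U P).d (n + 1) (n + 2) x = 0 →
    ∃ y : (CK U P).X n, (CK U P).d n (n + 1) y = x

lemma isZero_homology_succ_iff_acyc (P : Cᵒᵖ ⥤ AddCommGrpCat.{u}) (n : ℕ) :
    IsZero ((CK U P).homology (n + 1)) ↔ Acyc U P n :=
  isZero_homology_succ_iff U P n

lemma acyc_of_injective (I : Cᵒᵖ ⥤ AddCommGrpCat.{u}) [Injective I] (n : ℕ) : Acyc U I n :=
  (isZero_homology_succ_iff_acyc U I n).1 (isZero_homology_succ_of_injective U I n)

/-- The map of Čech cochains induced by a morphism of presheaves. -/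
noncomputable abbrev cmap {P Q : Cᵒᵖ ⥤ AddCommGrpCat.{u}} (f : P ⟶ Q) (n : ℕ) :
    (CK U P).X n ⟶ (CK U Q).X n := ((cechComplexFunctor U).map f).f n

variable {P' P P'' : Cᵒᵖ ⥤ AddCommGrpCat.{u}} (f : P' ⟶ P) (g : P ⟶ P'')

/-- Sectionwise exactness data of `P' ⟶ P ⟶ P''` on the members of the Čech nerve. -/
structure SecExact : Prop where
  inj : ∀ (n : ℕ) (σ : Fin (n + 1) → ι), Function.Injective (f.app (op (Uσ U σ)))
  surj : ∀ (n : ℕ) (σ : Fin (n + 1) → ι), Function.Surjective (g.app (op (Uσ U σ)))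
  zero : ∀ (n : ℕ) (σ : Fin (n + 1) → ι) (x : P'.obj (op (Uσ U σ))),
    g.app (op (Uσ U σ)) (f.app (op (Uσ U σ)) x) = 0
  exact : ∀ (n : ℕ) (σ : Fin (n + 1) → ι) (y : P.obj (op (Uσ U σ))),
    g.app (op (Uσ U σ)) y = 0 → ∃ x, f.app (op (Uσ U σ)) x = y

variable {U f g}

namespace SecExact

variable (h : SecExact U f g)
include h

lemma cmap_injective (n : ℕ) : Function.Injective (cmap U f n) := by
  intro x y hxy
  apply ext_proj
  intro σ
  apply h.inj n σ
  rw [← proj_map, ← proj_map, hxy]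

lemma cmap_surjective (n : ℕ) : Function.Surjective (cmap U g n) := by
  intro y
  choose x hx using fun σ : Fin (n + 1) → ι => h.surj n σ (proj U P'' n σ y)
  refine ⟨_root_.Groth.Agent.Lib.Helper22.Cech.mk U P x, ?_⟩
  apply ext_proj
  intro σ
  rw [proj_map, proj_mk, hx]

lemma cmap_zero (n : ℕ) (e : (CK U P').X n) : cmap U g n (cmap U f n e) = 0 := by
  apply ext_proj
  intro σ
  rw [proj_map, proj_map, h.zero, map_zero]

lemma cmap_exact (n : ℕ) (a : (CK U P).X n) (ha : cmap U g n a = 0) :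
    ∃ e, cmap U f n e = a := by
  have h0 : ∀ σ : Fin (n + 1) → ι, g.app (op (Uσ U σ)) (proj U P n σ a) = 0 := by
    intro σ
    rw [← proj_map, ha, map_zero]
  choose e he using fun σ : Fin (n + 1) → ι => h.exact n σ (proj U P n σ a) (h0 σ)
  refine ⟨_root_.Groth.Agent.Lib.Helper22.Cech.mk U P' e, ?_⟩
  apply ext_proj
  intro σ
  rw [proj_map, proj_mk, he]

/-- If the middle term is acyclic in degree `n + 2` and the quotient in degree `n + 1`, then the
sub is acyclic in degree `n + 2`. -/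
lemma acyc_sub_succ (n : ℕ) (hP : Acyc U P (n + 1)) (hP'' : Acyc U P'' n) : Acyc U P' (n + 1) := by
  intro c hc
  -- push to `P`
  have h1 : (CK U P).d (n + 2) (n + 3) (cmap U f (n + 2) c) = 0 := by
    rw [← map_d, hc, map_zero]
  obtain ⟨a, ha⟩ := hP _ h1
  -- image in `P''` is a cocycle
  have h2 : (CK U P'').d (n + 1) (n + 2) (cmap U g (n + 1) a) = 0 := by
    rw [← map_d, ha, h.cmap_zero]
  obtain ⟨b'', hb''⟩ := hP'' _ h2
  obtain ⟨b, hb⟩ := h.cmap_surjective n b''
  have h3 : cmap U g (n + 1) (a - (CK U P).d n (n + 1) b) = 0 := by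
    rw [map_sub, map_d, hb, hb'', sub_self]
  obtain ⟨e, he⟩ := h.cmap_exact (n + 1) _ h3
  refine ⟨e, ?_⟩
  apply h.cmap_injective (n + 2)
  rw [map_d, he, map_sub, d_d, sub_zero, ha]

/-- Degree one: if the middle term is acyclic in degree `1` and every `0`-cocycle of the quotient
lifts to a `0`-cocycle of the middle term, then the sub is acyclic in degree `1`. -/
lemma acyc_sub_zero (hP : Acyc U P 0)
    (hlift : ∀ a'' : (CK U P'').X 0, (CK U P'').d 0 1 a'' = 0 →
      ∃ a' : (CK U P).X 0, (CK U P).d 0 1 a' = 0 ∧ cmap U g 0 a' = a'') : Acyc U P' 0 := by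
  intro c hc
  have h1 : (CK U P).d 1 2 (cmap U f 1 c) = 0 := by
    rw [← map_d, hc, map_zero]
  obtain ⟨a, ha⟩ := hP _ h1
  have h2 : (CK U P'').d 0 1 (cmap U g 0 a) = 0 := by
    rw [← map_d, ha, h.cmap_zero]
  obtain ⟨a', ha'1, ha'2⟩ := hlift _ h2
  have h3 : cmap U g 0 (a - a') = 0 := by
    rw [map_sub, ha'2, sub_self]
  obtain ⟨e, he⟩ := h.cmap_exact 0 _ h3
  refine ⟨e, ?_⟩
  apply h.cmap_injective 1
  rw [map_d, he, map_sub, ha'1, sub_zero, ha]

/-- If the middle term is acyclic in degree `n + 1` and the sub in degree `n + 2`, then the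
quotient is acyclic in degree `n + 1`. -/
lemma acyc_quot (n : ℕ) (hP : Acyc U P n) (hP' : Acyc U P' (n + 1)) : Acyc U P'' n := by
  intro c'' hc''
  obtain ⟨a, ha⟩ := h.cmap_surjective (n + 1) c''
  have h1 : cmap U g (n + 2) ((CK U P).d (n + 1) (n + 2) a) = 0 := by
    rw [map_d, ha, hc'']
  obtain ⟨e, he⟩ := h.cmap_exact (n + 2) _ h1
  have h2 : (CK U P').d (n + 2) (n + 3) e = 0 := by
    apply h.cmap_injective (n + 3)
    rw [map_d, he, d_d, map_zero]
  obtain ⟨e', he'⟩ := hP' _ h2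
  have h3 : (CK U P).d (n + 1) (n + 2) (a - cmap U f (n + 1) e') = 0 := by
    rw [map_sub, ← map_d, he', he, sub_self]
  obtain ⟨a', ha'⟩ := hP _ h3
  refine ⟨cmap U g n a', ?_⟩
  rw [← map_d, ha', map_sub, ha, h.cmap_zero, sub_zero]

end SecExact

variable (U f g) in
/-- Sectionwise left exactness data of `P' ⟶ P ⟶ P''` on the members of the Čech nerve. -/
structure SecLeftExact : Prop where
  inj : ∀ (n : ℕ) (σ : Fin (n + 1) → ι), Function.Injective (f.app (op (Uσ U σ)))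
  zero : ∀ (n : ℕ) (σ : Fin (n + 1) → ι) (x : P'.obj (op (Uσ U σ))),
    g.app (op (Uσ U σ)) (f.app (op (Uσ U σ)) x) = 0
  exact : ∀ (n : ℕ) (σ : Fin (n + 1) → ι) (y : P.obj (op (Uσ U σ))),
    g.app (op (Uσ U σ)) y = 0 → ∃ x, f.app (op (Uσ U σ)) x = y

lemma SecExact.toLeft (h : SecExact U f g) : SecLeftExact U f g :=
  ⟨h.inj, h.zero, h.exact⟩

namespace SecLeftExact

variable (h : SecLeftExact U f g)
include h

lemma cmap_injective (n : ℕ) : Function.Injective (cmap U f n) := by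
  intro x y hxy
  apply ext_proj
  intro σ
  apply h.inj n σ
  rw [← proj_map, ← proj_map, hxy]

lemma cmap_zero (n : ℕ) (e : (CK U P').X n) : cmap U g n (cmap U f n e) = 0 := by
  apply ext_proj
  intro σ
  rw [proj_map, proj_map, h.zero, map_zero]

lemma cmap_exact (n : ℕ) (a : (CK U P).X n) (ha : cmap U g n a = 0) :
    ∃ e, cmap U f n e = a := by
  have h0 : ∀ σ : Fin (n + 1) → ι, g.app (op (Uσ U σ)) (proj U P n σ a) = 0 := by
    intro σ
    rw [← proj_map, ha, map_zero]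
  choose e he using fun σ : Fin (n + 1) → ι => h.exact n σ (proj U P n σ a) (h0 σ)
  refine ⟨_root_.Groth.Agent.Lib.Helper22.Cech.mk U P' e, ?_⟩
  apply ext_proj
  intro σ
  rw [proj_map, proj_mk, he]

/-- The `Ȟ¹` argument: if `P'` is Čech-acyclic in degree `1`, a `0`-cochain `a` of `P` whose image in
`P''` is a cocycle can be corrected by a cochain of `P'` to a cocycle. -/
lemma exists_cocycle_lift (hP' : Acyc U P' 0) (a : (CK U P).X 0)
    (ha : (CK U P'').d 0 1 (cmap U g 0 a) = 0) :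
    ∃ a' : (CK U P).X 0, (CK U P).d 0 1 a' = 0 ∧ cmap U g 0 a' = cmap U g 0 a := by
  have h1 : cmap U g 1 ((CK U P).d 0 1 a) = 0 := by
    rw [map_d, ha]
  obtain ⟨c, hc⟩ := h.cmap_exact 1 _ h1
  have h2 : (CK U P').d 1 2 c = 0 := by
    apply h.cmap_injective 2
    rw [map_d, hc, d_d, map_zero]
  obtain ⟨b, hb⟩ := hP' c h2
  refine ⟨a - cmap U f 0 b, ?_, ?_⟩
  · rw [map_sub, ← map_d, hb, hc, sub_self]
  · rw [map_sub, h.cmap_zero, sub_zero]

end SecLeftExact

end Groth.Agent.Lib.Helper22.Cech
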