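import Groth.Agent.Lib.Helper22.Cech.Bridge

/-!
# The free presheaves on the Čech nerve

For `U : ι → C`, the presheaf `K U n : V ↦ ℤ[(Σ i, V ⟶ U i)^{n+1}]` corepresents the degree `n`
term of the Čech complex, and the alternating face maps `∂ : K (n+1) ⟶ K n` corepresent the
Čech differential. The sequence `K (n+2) ⟶ K (n+1) ⟶ K n` is exact (cone construction).
-/

set_option autoImplicit false

universe u u'

open CategoryTheory CategoryTheory.Limits Opposite

namespace Groth.Agent.Lib.Helper22.Cech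

variable {C : Type u'} [Category.{u} C] {ι : Type u} (U : ι → C)

/-- Pairs of an index and a map to the corresponding member of the family. -/
abbrev SV (V : C) : Type u := Σ i : ι, (V ⟶ U i)

/-- Precomposition. -/
def SV.pre {V W : C} (h : W ⟶ V) (s : SV U V) : SV U W := ⟨s.1, h ≫ s.2⟩

@[simp] lemma SV.pre_id {V : C} (s : SV U V) : SV.pre U (𝟙 V) s = s := by
  cases s; simp [SV.pre]

@[simp] lemma SV.pre_comp {V W Z : C} (h : W ⟶ V) (h' : Z ⟶ W) (s : SV U V) :
    SV.pre U (h' ≫ h) s = SV.pre U h' (SV.pre U h s) := by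
  cases s; simp [SV.pre]

/-- Tuples of elements of `S_V`. -/
abbrev T (n : ℕ) (V : C) : Type u := Fin (n + 1) → SV U V

/-- Precomposition on tuples. -/
def T.pre {n : ℕ} {V W : C} (h : W ⟶ V) (s : T U n V) : T U n W := fun j => SV.pre U h (s j)

@[simp] lemma T.pre_id {n : ℕ} {V : C} (s : T U n V) : T.pre U (𝟙 V) s = s := by
  funext j; simp [T.pre]

@[simp] lemma T.pre_comp {n : ℕ} {V W Z : C} (h : W ⟶ V) (h' : Z ⟶ W) (s : T U n V) :
    T.pre U (h' ≫ h) s = T.pre U h' (T.pre U h s) := by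
  funext j; simp [T.pre]

lemma T.pre_comp_succAbove {n : ℕ} {V W : C} (h : W ⟶ V) (s : T U (n + 1) V) (k : Fin (n + 2)) :
    T.pre U h (s ∘ k.succAbove) = (T.pre U h s) ∘ k.succAbove := rfl

/-- The restriction map of `K`, as an additive map. -/
noncomputable def Kmap {n : ℕ} {V W : C} (h : W ⟶ V) :
    FreeAbelianGroup (T U n V) →+ FreeAbelianGroup (T U n W) :=
  FreeAbelianGroup.map (T.pre U h)

@[simp] lemma Kmap_of {n : ℕ} {V W : C} (h : W ⟶ V) (s : T U n V) :
    Kmap U h (FreeAbelianGroup.of s) = FreeAbelianGroup.of (T.pre U h s) :=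
  FreeAbelianGroup.map_of_apply s

/-- The presheaf `V ↦ ℤ[(S_V)^{n+1}]`. -/
noncomputable def K (n : ℕ) : Cᵒᵖ ⥤ AddCommGrpCat.{u} where
  obj V := AddCommGrpCat.of (FreeAbelianGroup (T U n V.unop))
  map {V W} h := AddCommGrpCat.ofHom (Kmap U h.unop)
  map_id V := by
    ext1
    apply FreeAbelianGroup.lift_ext
    intro s
    change Kmap U (𝟙 V.unop) (FreeAbelianGroup.of s) = FreeAbelianGroup.of s
    simp
  map_comp {V W Z} h h' := by
    ext1
    apply FreeAbelianGroup.lift_ext
    intro s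
    change Kmap U (h'.unop ≫ h.unop) (FreeAbelianGroup.of s) =
      Kmap U h'.unop (Kmap U h.unop (FreeAbelianGroup.of s))
    simp

/-- The alternating face map on generators. -/
noncomputable def bdryFun {V : C} (n : ℕ) (s : T U (n + 1) V) : FreeAbelianGroup (T U n V) :=
  ∑ k : Fin (n + 2), (-1 : ℤ) ^ (k : ℕ) • FreeAbelianGroup.of (s ∘ k.succAbove)

/-- The alternating face map, as an additive map. -/
noncomputable def bdryHom (n : ℕ) (V : C) :
    FreeAbelianGroup (T U (n + 1) V) →+ FreeAbelianGroup (T U n V) :=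
  FreeAbelianGroup.lift (bdryFun U n)

@[simp] lemma bdryHom_of {n : ℕ} {V : C} (s : T U (n + 1) V) :
    bdryHom U n V (FreeAbelianGroup.of s) = bdryFun U n s :=
  FreeAbelianGroup.lift_apply_of _ s

lemma Kmap_bdryFun {n : ℕ} {V W : C} (h : W ⟶ V) (s : T U (n + 1) V) :
    Kmap U h (bdryFun U n s) = bdryFun U n (T.pre U h s) := by
  unfold bdryFun
  rw [map_sum]
  refine Finset.sum_congr rfl fun k _ => ?_
  rw [map_zsmul, Kmap_of, T.pre_comp_succAbove]

lemma bdryHom_natural {n : ℕ} {V W : C} (h : W ⟶ V) :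
    (bdryHom U n W).comp (Kmap U h) = (Kmap U h).comp (bdryHom U n V) := by
  apply FreeAbelianGroup.lift_ext
  intro s
  simp [Kmap_bdryFun]

/-- The alternating face map `K (n+1) ⟶ K n`. -/
noncomputable def bdry (n : ℕ) : K U (n + 1) ⟶ K U n where
  app V := AddCommGrpCat.ofHom (bdryHom U n V.unop)
  naturality {V W} h := by
    ext1
    exact bdryHom_natural U h.unop

/-! ### The cone construction -/

/-- The cone with vertex `s₀`. -/
noncomputable def coneHom {V : C} (s₀ : SV U V) (n : ℕ) :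
    FreeAbelianGroup (T U n V) →+ FreeAbelianGroup (T U (n + 1) V) :=
  FreeAbelianGroup.map (fun s => (Fin.cons s₀ s : Fin (n + 2) → SV U V))

@[simp] lemma coneHom_of {V : C} (s₀ : SV U V) (n : ℕ) (s : T U n V) :
    coneHom U s₀ n (FreeAbelianGroup.of s) =
      FreeAbelianGroup.of (Fin.cons s₀ s : Fin (n + 2) → SV U V) :=
  FreeAbelianGroup.map_of_apply s

lemma cons_comp_succAbove_zero {V : C} (s₀ : SV U V) {n : ℕ} (s : T U n V) :
    (Fin.cons s₀ s : Fin (n + 2) → SV U V) ∘ (0 : Fin (n + 2)).succAbove = s := by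
  funext j
  simp [Fin.succAbove_zero]

lemma cons_comp_succAbove_succ {V : C} (s₀ : SV U V) {n : ℕ} (s : T U (n + 1) V)
    (k : Fin (n + 2)) :
    (Fin.cons s₀ s : Fin (n + 3) → SV U V) ∘ k.succ.succAbove =
      (Fin.cons s₀ (s ∘ k.succAbove) : Fin (n + 2) → SV U V) := by
  funext i
  refine Fin.cases ?_ (fun i' => ?_) i
  · simp
  · simp

/-- The cone is a contracting homotopy in positive degrees. -/
lemma cone_identity {V : C} (s₀ : SV U V) (n : ℕ) (z : FreeAbelianGroup (T U (n + 1) V)) :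
    bdryHom U (n + 1) V (coneHom U s₀ (n + 1) z) + coneHom U s₀ n (bdryHom U n V z) = z := by
  have key : (bdryHom U (n + 1) V).comp (coneHom U s₀ (n + 1)) +
      (coneHom U s₀ n).comp (bdryHom U n V) = AddMonoidHom.id _ := by
    apply FreeAbelianGroup.lift_ext
    intro s
    rw [AddMonoidHom.add_apply, AddMonoidHom.comp_apply, AddMonoidHom.comp_apply,
      coneHom_of, bdryHom_of, bdryHom_of, AddMonoidHom.id_apply]
    unfold bdryFun
    rw [Fin.sum_univ_succ, map_sum, cons_comp_succAbove_zero, Fin.val_zero, pow_zero, one_smul,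
      add_assoc, ← Finset.sum_add_distrib]
    convert add_zero _
    refine Finset.sum_eq_zero fun k _ => ?_
    rw [map_zsmul, coneHom_of, cons_comp_succAbove_succ, Fin.val_succ, pow_succ, mul_neg_one,
      neg_smul, neg_add_cancel]
  exact DFunLike.congr_fun key z

/-- Objectwise exactness of `K (n+2) ⟶ K (n+1) ⟶ K n`. -/
lemma exists_bdry_eq {V : C} (n : ℕ) (z : FreeAbelianGroup (T U (n + 1) V))
    (hz : bdryHom U n V z = 0) : ∃ w, bdryHom U (n + 1) V w = z := by
  by_cases h : Nonempty (SV U V)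
  · obtain ⟨s₀⟩ := h
    refine ⟨coneHom U s₀ (n + 1) z, ?_⟩
    have := cone_identity U s₀ n z
    rw [hz, map_zero, add_zero] at this
    exact this
  · rw [not_nonempty_iff] at h
    have : IsEmpty (T U (n + 1) V) := ⟨fun s => h.false (s 0)⟩
    exact ⟨0, Subsingleton.elim _ _⟩

/-! ### Corepresentability of Čech cochains -/

variable [HasFiniteProducts C] (P : Cᵒᵖ ⥤ AddCommGrpCat.{u})

/-- The canonical tuple over `U_σ`. -/
noncomputable def can {n : ℕ} (σ : Fin (n + 1) → ι) : T U n (Uσ U σ) :=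
  fun j => ⟨σ j, Pi.π (U ∘ σ) j⟩

/-- The index tuple of a tuple. -/
abbrev idx {n : ℕ} {V : C} (s : T U n V) : Fin (n + 1) → ι := fun j => (s j).1

/-- The map to the product determined by a tuple. -/
noncomputable def toProd {n : ℕ} {V : C} (s : T U n V) : V ⟶ Uσ U (idx U s) :=
  Pi.lift (fun j => ((s j).2 : V ⟶ (U ∘ idx U s) j))

@[reassoc (attr := simp)]
lemma toProd_π {n : ℕ} {V : C} (s : T U n V) (j : Fin (n + 1)) :
    toProd U s ≫ Pi.π (U ∘ idx U s) j = (s j).2 :=
  Pi.lift_π _ j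

lemma toProd_pre {n : ℕ} {V W : C} (h : W ⟶ V) (s : T U n V) :
    toProd U (T.pre U h s) = h ≫ toProd U s := by
  refine Pi.hom_ext (f := U ∘ idx U s) _ _ (fun j => ?_)
  have h1 : toProd U (T.pre U h s) ≫ Pi.π (U ∘ idx U s) j = h ≫ (s j).2 :=
    toProd_π U (T.pre U h s) j
  exact h1.trans (by rw [Category.assoc, toProd_π])

lemma toProd_can {n : ℕ} (σ : Fin (n + 1) → ι) : toProd U (can U σ) = 𝟙 (Uσ U σ) := by
  refine Pi.hom_ext (f := U ∘ σ) _ _ (fun j => ?_)
  have h1 : toProd U (can U σ) ≫ Pi.π (U ∘ σ) j = Pi.π (U ∘ σ) j := toProd_π U (can U σ) j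
  exact h1.trans (Category.id_comp _).symm

lemma pre_can {n : ℕ} {V : C} (s : T U n V) : T.pre U (toProd U s) (can U (idx U s)) = s := by
  funext j
  change (⟨(s j).1, toProd U s ≫ Pi.π (U ∘ idx U s) j⟩ : SV U V) = s j
  rw [toProd_π]

lemma toProd_can_comp_succAbove {n : ℕ} (σ : Fin (n + 2) → ι) (k : Fin (n + 2)) :
    toProd U (can U σ ∘ k.succAbove) = face U σ k := rfl

variable {U P}

/-- The components of a morphism `K n ⟶ P`. -/
noncomputable def comp {n : ℕ} (f : K U n ⟶ P) (σ : Fin (n + 1) → ι) : P.obj (op (Uσ U σ)) :=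
  (f.app (op (Uσ U σ))).hom (FreeAbelianGroup.of (can U σ))

lemma app_of {n : ℕ} (f : K U n ⟶ P) {V : C} (s : T U n V) :
    (f.app (op V)).hom (FreeAbelianGroup.of s) = P.map (toProd U s).op (comp f (idx U s)) := by
  have h := ConcreteCategory.congr_hom (f.naturality (toProd U s).op)
    (FreeAbelianGroup.of (can U (idx U s)))
  have h' : (f.app (op V)).hom (Kmap U (toProd U s) (FreeAbelianGroup.of (can U (idx U s)))) =
      P.map (toProd U s).op (comp f (idx U s)) := h
  rw [Kmap_of, pre_can] at h'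
  exact h'

lemma hom_ext_comp {n : ℕ} (f g : K U n ⟶ P) (h : ∀ σ, comp f σ = comp g σ) : f = g := by
  ext V : 3
  apply FreeAbelianGroup.lift_ext
  intro s
  obtain ⟨V⟩ := V
  change (f.app (op V)).hom (FreeAbelianGroup.of s) = (g.app (op V)).hom (FreeAbelianGroup.of s)
  rw [app_of, app_of, h]

variable (U P)

/-- The additive map defined by a family of components. -/
noncomputable def ofCompHom {n : ℕ} (x : ∀ σ : Fin (n + 1) → ι, P.obj (op (Uσ U σ))) (V : C) :
    FreeAbelianGroup (T U n V) →+ P.obj (op V) :=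
  FreeAbelianGroup.lift (fun s : T U n V => P.map (toProd U s).op (x (idx U s)))

/-- The morphism `K n ⟶ P` with given components. -/
noncomputable def ofComp {n : ℕ} (x : ∀ σ : Fin (n + 1) → ι, P.obj (op (Uσ U σ))) :
    K U n ⟶ P where
  app V := AddCommGrpCat.ofHom (ofCompHom U P x V.unop)
  naturality {V W} h := by
    ext1
    apply FreeAbelianGroup.lift_ext
    intro s
    change ofCompHom U P x W.unop (Kmap U h.unop (FreeAbelianGroup.of s)) =
      P.map h (ofCompHom U P x V.unop (FreeAbelianGroup.of s))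
    unfold ofCompHom
    rw [Kmap_of, FreeAbelianGroup.lift_apply_of, FreeAbelianGroup.lift_apply_of]
    change P.map (toProd U (T.pre U h.unop s)).op (x (idx U s)) = _
    have e : toProd U (T.pre U h.unop s) = h.unop ≫ toProd U s := toProd_pre U h.unop s
    have h3 : P.map (h.unop ≫ toProd U s).op (x (idx U s)) =
        P.map h.unop.op (P.map (toProd U s).op (x (idx U s))) := by
      rw [op_comp, P.map_comp]
      rfl
    exact (congrArg (fun φ : W.unop ⟶ Uσ U (idx U s) =>
      (P.map (Quiver.Hom.op φ)).hom (x (idx U s))) e).trans h3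

lemma comp_ofComp {n : ℕ} (x : ∀ σ : Fin (n + 1) → ι, P.obj (op (Uσ U σ)))
    (σ : Fin (n + 1) → ι) : comp (ofComp U P x) σ = x σ := by
  change ofCompHom U P x (Uσ U σ) (FreeAbelianGroup.of (can U σ)) = x σ
  unfold ofCompHom
  rw [FreeAbelianGroup.lift_apply_of]
  change P.map (toProd U (can U σ)).op (x σ) = x σ
  have h3 : P.map (𝟙 (Uσ U σ)).op (x σ) = x σ := by
    rw [op_id, P.map_id]
    rfl
  exact (congrArg (fun φ : Uσ U σ ⟶ Uσ U σ =>
    (P.map (Quiver.Hom.op φ)).hom (x σ)) (toProd_can U σ)).trans h3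

variable {U P}

/-- The alternating face map corepresents the Čech differential. -/
lemma comp_bdry {n : ℕ} (f : K U n ⟶ P) (σ : Fin (n + 2) → ι) :
    comp (bdry U n ≫ f) σ =
      ∑ k : Fin (n + 2), (-1 : ℤ) ^ (k : ℕ) •
        P.map (face U σ k).op (comp f (σ ∘ k.succAbove)) := by
  let φ : FreeAbelianGroup (T U n (Uσ U σ)) →+ P.obj (op (Uσ U σ)) := (f.app (op (Uσ U σ))).hom
  change φ (bdryHom U n (Uσ U σ) (FreeAbelianGroup.of (can U σ))) = _
  rw [bdryHom_of]
  unfold bdryFun
  rw [map_sum]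
  refine Finset.sum_congr rfl fun k _ => ?_
  rw [map_zsmul]
  congr 1
  exact app_of f (can U σ ∘ k.succAbove)

end Groth.Agent.Lib.Helper22.Cech
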