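import Groth.Agent.Lib.Helper22.Cech.Exact

/-!
# The long exact sequence of Čech cohomology of a sectionwise short exact sequence of presheaves
-/

set_option autoImplicit false

universe u u'

open CategoryTheory CategoryTheory.Limits Opposite

namespace Groth.Agent.Lib.Helper22.Cech

variable {C : Type u'} [Category.{u} C] [HasFiniteProducts C] {ι : Type u} (U : ι → C)

instance preservesZeroMorphisms_cechComplexFunctor :
    (cechComplexFunctor (A := AddCommGrpCat.{u}) U).PreservesZeroMorphisms where
  map_zero P Q := by
    apply HomologicalComplex.hom_ext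
    intro n
    simp [cechComplexFunctor, FormalCoproduct.cochainComplexFunctor]
    refine Limits.Pi.hom_ext _ _ (fun j => ?_)
    simp
    erw [Limits.zero_comp]

variable {P' P P'' : Cᵒᵖ ⥤ AddCommGrpCat.{u}} (f : P' ⟶ P) (g : P ⟶ P'') (w : f ≫ g = 0)

/-- The short complex of Čech complexes. -/
noncomputable def cechSC : ShortComplex (CochainComplex AddCommGrpCat.{u} ℕ) :=
  ShortComplex.mk ((cechComplexFunctor U).map f) ((cechComplexFunctor U).map g)
    (by rw [← Functor.map_comp, w, Functor.map_zero])

variable {U f g}
include w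

lemma cechSC_shortExact (h : SecExact U f g) : (cechSC U f g w).ShortExact := by
  apply HomologicalComplex.shortExact_of_degreewise_shortExact
  intro n
  exact
    { exact := (ShortComplex.ab_exact_iff _).2 fun x hx => h.cmap_exact n x hx
      mono_f := (AddCommGrpCat.mono_iff_injective _).2 (h.cmap_injective n)
      epi_g := (AddCommGrpCat.epi_iff_surjective _).2 (h.cmap_surjective n) }

/-- Dimension shifting for Čech cohomology. -/
theorem nonempty_homology_succ_addEquiv (h : SecExact U f g) (n : ℕ)
    (h1 : IsZero ((CK U P).homology (n + 1))) (h2 : IsZero ((CK U P).homology (n + 2))) :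
    Nonempty ((CK U P'').homology (n + 1) ≃+ (CK U P').homology (n + 2)) :=
  ⟨((cechSC_shortExact w h).δIso (n + 1) (n + 2) rfl h1 h2).addCommGroupIsoToAddEquiv⟩

/-- The connecting map `Ȟ⁰(P'') → Ȟ¹(P')`. -/
noncomputable def δ₀ (h : SecExact U f g) : (CK U P'').homology 0 →+ (CK U P').homology 1 :=
  ((cechSC_shortExact w h).δ 0 1 rfl).hom

lemma δ₀_surjective (h : SecExact U f g) (h1 : IsZero ((CK U P).homology 1)) :
    Function.Surjective (δ₀ w h) := by
  have := (cechSC_shortExact w h).epi_δ 0 1 rfl h1
  exact (AddCommGrpCat.epi_iff_surjective _).1 this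

lemma δ₀_eq_zero_iff (h : SecExact U f g) (x : (CK U P'').homology 0) :
    δ₀ w h x = 0 ↔
      ∃ y, HomologicalComplex.homologyMap ((cechComplexFunctor U).map g) 0 y = x := by
  have hex := (cechSC_shortExact w h).homology_exact₃ 0 1 rfl
  rw [ShortComplex.ab_exact_iff] at hex
  constructor
  · intro hx
    exact hex x hx
  · rintro ⟨y, rfl⟩
    have h0 := (cechSC_shortExact w h).comp_δ 0 1 rfl
    have := ConcreteCategory.congr_hom h0 y
    rw [ConcreteCategory.comp_apply] at this
    exact this

end Groth.Agent.Lib.Helper22.Cech
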