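import Groth.Agent.Lib.Helper22.Cech.Top

/-!
# Čech acyclicity from localization data

Abstract form of the vanishing of Čech cohomology of quasi-coherent modules for standard coverings: a
presheaf `P` of `R`-modules on a space, a finite family of opens `U i` and elements `f i : R` such that
restriction from `U_σ` to `U i ⊓ U_σ` behaves like localization at `f i`, together with a partition of
unity, has vanishing Čech cohomology in positive degrees.
-/

set_option autoImplicit false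

universe u v

open CategoryTheory CategoryTheory.Limits Opposite TopologicalSpace

namespace Groth.Agent.Lib.Helper22.Cech

variable {X : TopCat.{u}} {ι : Type u} (U : ι → Opens X) (P : (Opens X)ᵒᵖ ⥤ AddCommGrpCat.{u})
  {R : Type v} [CommRing R] [∀ V : (Opens X)ᵒᵖ, Module R (P.obj V)]

/-- Restriction maps are `R`-linear. -/
def IsLin : Prop :=
  ∀ {V W : (Opens X)ᵒᵖ} (h : V ⟶ W) (r : R) (x : P.obj V), P.map h (r • x) = r • P.map h x

variable {P}

/-- Scalar multiplication on cochains. -/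
noncomputable def smulC {n : ℕ} (r : R) (a : (CK U P).X n) : (CK U P).X n :=
  mk U P fun σ => r • proj U P n σ a

@[simp]
lemma proj_smulC {n : ℕ} (r : R) (a : (CK U P).X n) (σ : Fin (n + 1) → ι) :
    proj U P n σ (smulC U r a) = r • proj U P n σ a := by
  unfold smulC
  rw [proj_mk]

lemma smulC_add {n : ℕ} (r : R) (a b : (CK U P).X n) :
    smulC U r (a + b) = smulC U r a + smulC U r b := by
  apply ext_proj
  intro σ
  rw [map_add, proj_smulC, proj_smulC, proj_smulC, map_add, smul_add]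

lemma smulC_smulC {n : ℕ} (r s : R) (a : (CK U P).X n) :
    smulC U r (smulC U s a) = smulC U (r * s) a := by
  apply ext_proj
  intro σ
  rw [proj_smulC, proj_smulC, proj_smulC, mul_smul]

lemma add_smulC {n : ℕ} (r s : R) (a : (CK U P).X n) :
    smulC U (r + s) a = smulC U r a + smulC U s a := by
  apply ext_proj
  intro σ
  rw [map_add, proj_smulC, proj_smulC, proj_smulC, add_smul]

lemma smulC_zero {n : ℕ} (r : R) : smulC U r (0 : (CK U P).X n) = 0 := by
  apply ext_proj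
  intro σ
  rw [proj_smulC, map_zero, smul_zero]

lemma zero_smulC {n : ℕ} (a : (CK U P).X n) : smulC U (0 : R) a = 0 := by
  apply ext_proj
  intro σ
  rw [proj_smulC, map_zero, zero_smul]

lemma smulC_sub {n : ℕ} (r : R) (a b : (CK U P).X n) :
    smulC U r (a - b) = smulC U r a - smulC U r b := by
  apply ext_proj
  intro σ
  rw [map_sub, proj_smulC, proj_smulC, proj_smulC, map_sub, smul_sub]

variable (hlin : IsLin (R := R) P)
include hlin

lemma d_smulC {n : ℕ} (r : R) (a : (CK U P).X n) :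
    (CK U P).d n (n + 1) (smulC U r a) = smulC U r ((CK U P).d n (n + 1) a) := by
  apply ext_proj
  intro σ
  rw [proj_smulC, proj_d, proj_d, Finset.smul_sum]
  refine Finset.sum_congr rfl fun k _ => ?_
  rw [proj_smulC, hlin, smul_comm]

omit hlin in
lemma rsp_proj_d {n : ℕ} (a : (CK U P).X n) (τ : Fin (n + 2) → ι) {V : Opens X}
    (h : V ≤ Uσ U τ) :
    rsp P h (proj U P (n + 1) τ ((CK U P).d n (n + 1) a)) =
      ∑ k : Fin (n + 2), (-1 : ℤ) ^ (k : ℕ) •
        rsp P (h.trans (leOfHom (face U τ k))) (proj U P n (τ ∘ k.succAbove) a) := by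
  rw [proj_d, map_sum]
  refine Finset.sum_congr rfl fun k _ => ?_
  rw [map_zsmul, map_eq_rsp, rsp_rsp]

omit hlin in
lemma gcons_comp_succAbove_zero {α : Type*} (a : α) {n : ℕ} (s : Fin (n + 1) → α) :
    (Fin.cons a s : Fin (n + 2) → α) ∘ (0 : Fin (n + 2)).succAbove = s := by
  funext j
  simp [Fin.succAbove_zero]

omit hlin in
lemma gcons_comp_succAbove_succ {α : Type*} (a : α) {n : ℕ} (s : Fin (n + 2) → α)
    (k : Fin (n + 2)) :
    (Fin.cons a s : Fin (n + 3) → α) ∘ k.succ.succAbove =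
      (Fin.cons a (s ∘ k.succAbove) : Fin (n + 2) → α) := by
  funext i
  refine Fin.cases ?_ (fun i' => ?_) i
  · simp
  · simp [Fin.succ_succAbove_succ]

omit hlin in
lemma inf_le_Uσ_cons {n : ℕ} (i : ι) (σ : Fin (n + 1) → ι) :
    U i ⊓ Uσ U σ ≤ Uσ U (Fin.cons i σ : Fin (n + 2) → ι) := by
  apply le_Uσ
  intro k
  refine Fin.cases ?_ (fun k' => ?_) k
  · rw [Fin.cons_zero]
    exact inf_le_left
  · rw [Fin.cons_succ]
    exact inf_le_right.trans (Uσ_le U σ k')

section main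

omit hlin

variable [Fintype ι] (f : ι → R)

variable (P) in
/-- Localization data for the family `U` and the elements `f`. -/
structure LocData : Prop where
  lin : IsLin (R := R) P
  surj : ∀ (n : ℕ) (σ : Fin (n + 1) → ι) (i : ι) (x : P.obj (op (U i ⊓ Uσ U σ))),
    ∃ (m : ℕ) (y : P.obj (op (Uσ U σ))),
      rsp P (inf_le_right : U i ⊓ Uσ U σ ≤ Uσ U σ) y = f i ^ m • x
  inj : ∀ (n : ℕ) (σ : Fin (n + 1) → ι) (i : ι) (y : P.obj (op (Uσ U σ))),
    rsp P (inf_le_right : U i ⊓ Uσ U σ ≤ Uσ U σ) y = 0 → ∃ m : ℕ, f i ^ m • y = 0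
  pu : ∀ m : ℕ, ∃ g : ι → R, ∀ (n : ℕ) (σ : Fin (n + 1) → ι),
    Function.Bijective (fun x : P.obj (op (Uσ U σ)) => (∑ i, g i * f i ^ m) • x)

variable {U f} (hL : LocData U P f)
include hL

/-- Step 1: uniform lifting of the components `c_{(i, σ)}`. -/
lemma LocData.exists_uniform_lift {n : ℕ} (c : (CK U P).X (n + 1)) :
    ∃ m : ℕ, ∀ i : ι, ∃ b : (CK U P).X n, ∀ σ : Fin (n + 1) → ι,
      rsp P (inf_le_right : U i ⊓ Uσ U σ ≤ Uσ U σ) (proj U P n σ b) =
        f i ^ m • rsp P (inf_le_Uσ_cons U i σ)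
          (proj U P (n + 1) (Fin.cons i σ : Fin (n + 2) → ι) c) := by
  classical
  choose mfun yfun hy using fun (i : ι) (σ : Fin (n + 1) → ι) =>
    hL.surj n σ i (rsp P (inf_le_Uσ_cons U i σ)
      (proj U P (n + 1) (Fin.cons i σ : Fin (n + 2) → ι) c))
  obtain ⟨m, hm⟩ := (Set.finite_range
    (fun p : ι × (Fin (n + 1) → ι) => mfun p.1 p.2)).bddAbove
  have hm' : ∀ i σ, mfun i σ ≤ m := fun i σ => hm ⟨(i, σ), rfl⟩
  refine ⟨m, fun i => ⟨_root_.Groth.Agent.Lib.Helper22.Cech.mk U P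
    fun σ => f i ^ (m - mfun i σ) • yfun i σ, fun σ => ?_⟩⟩
  rw [proj_mk, hL.lin, hy, smul_smul, ← pow_add, Nat.sub_add_cancel (hm' i σ)]

/-- Step 2: the restriction of `d b - f_i^m c` to `U i ⊓ U_τ` vanishes. -/
lemma LocData.rsp_d_sub_eq_zero {n : ℕ} (c : (CK U P).X (n + 1))
    (hc : (CK U P).d (n + 1) (n + 2) c = 0) (i : ι) (m : ℕ) (b : (CK U P).X n)
    (hb : ∀ σ : Fin (n + 1) → ι,
      rsp P (inf_le_right : U i ⊓ Uσ U σ ≤ Uσ U σ) (proj U P n σ b) =
        f i ^ m • rsp P (inf_le_Uσ_cons U i σ)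
          (proj U P (n + 1) (Fin.cons i σ : Fin (n + 2) → ι) c))
    (τ : Fin (n + 2) → ι) :
    rsp P (inf_le_right : U i ⊓ Uσ U τ ≤ Uσ U τ)
      (proj U P (n + 1) τ ((CK U P).d n (n + 1) b - smulC U (f i ^ m) c)) = 0 := by
  -- the cocycle condition at `cons i τ`, restricted to `U i ⊓ U_τ`
  have h0 := congrArg (fun x => rsp P (inf_le_Uσ_cons U i τ)
    (proj U P (n + 2) (Fin.cons i τ : Fin (n + 3) → ι) x)) hc
  simp only [map_zero] at h0
  rw [rsp_proj_d, Fin.sum_univ_succ] at h0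
  have h1 : rsp P ((inf_le_Uσ_cons U i τ).trans
      (leOfHom (face U (Fin.cons i τ : Fin (n + 3) → ι) 0)))
      (proj U P (n + 1) ((Fin.cons i τ : Fin (n + 3) → ι) ∘ (0 : Fin (n + 3)).succAbove) c) =
      rsp P (inf_le_right : U i ⊓ Uσ U τ ≤ Uσ U τ) (proj U P (n + 1) τ c) :=
    rsp_proj_congr U P (gcons_comp_succAbove_zero i τ) _ _ c
  rw [h1] at h0
  -- the terms of `d b`
  have h2 : ∀ k : Fin (n + 2),
      rsp P ((inf_le_right : U i ⊓ Uσ U τ ≤ Uσ U τ).trans (leOfHom (face U τ k)))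
        (proj U P n (τ ∘ k.succAbove) b) =
      f i ^ m • rsp P ((inf_le_Uσ_cons U i τ).trans
        (leOfHom (face U (Fin.cons i τ : Fin (n + 3) → ι) k.succ)))
        (proj U P (n + 1) ((Fin.cons i τ : Fin (n + 3) → ι) ∘ k.succ.succAbove) c) := by
    intro k
    have hle : U i ⊓ Uσ U τ ≤ U i ⊓ Uσ U (τ ∘ k.succAbove) :=
      inf_le_inf_left _ (leOfHom (face U τ k))
    have e1 : rsp P ((inf_le_right : U i ⊓ Uσ U τ ≤ Uσ U τ).trans (leOfHom (face U τ k)))
        (proj U P n (τ ∘ k.succAbove) b) =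
        rsp P hle (rsp P inf_le_right (proj U P n (τ ∘ k.succAbove) b)) := by
      rw [rsp_rsp]
    rw [e1, hb, hL.lin, rsp_rsp]
    congr 1
    exact (rsp_proj_congr U P (gcons_comp_succAbove_succ i τ k) _ _ c).symm
  rw [map_sub, map_sub, proj_smulC, hL.lin, rsp_proj_d]
  have hsum : ∑ k : Fin (n + 2), (-1 : ℤ) ^ (k : ℕ) •
      rsp P ((inf_le_right : U i ⊓ Uσ U τ ≤ Uσ U τ).trans (leOfHom (face U τ k)))
        (proj U P n (τ ∘ k.succAbove) b) =
      ∑ k : Fin (n + 2), (-1 : ℤ) ^ (k : ℕ) • (f i ^ m • rsp P ((inf_le_Uσ_cons U i τ).trans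
        (leOfHom (face U (Fin.cons i τ : Fin (n + 3) → ι) k.succ)))
        (proj U P (n + 1) ((Fin.cons i τ : Fin (n + 3) → ι) ∘ k.succ.succAbove) c)) :=
    Finset.sum_congr rfl fun k _ => by rw [h2 k]
  rw [hsum]
  have h3 : rsp P (inf_le_right : U i ⊓ Uσ U τ ≤ Uσ U τ) (proj U P (n + 1) τ c) =
      ∑ k : Fin (n + 2), (-1 : ℤ) ^ (k : ℕ) • rsp P ((inf_le_Uσ_cons U i τ).trans
        (leOfHom (face U (Fin.cons i τ : Fin (n + 3) → ι) k.succ)))
        (proj U P (n + 1) ((Fin.cons i τ : Fin (n + 3) → ι) ∘ k.succ.succAbove) c) := by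
    have h4 : ∀ k : Fin (n + 2), (-1 : ℤ) ^ ((k.succ : Fin (n + 3)) : ℕ) •
        rsp P ((inf_le_Uσ_cons U i τ).trans
          (leOfHom (face U (Fin.cons i τ : Fin (n + 3) → ι) k.succ)))
          (proj U P (n + 1) ((Fin.cons i τ : Fin (n + 3) → ι) ∘ k.succ.succAbove) c) =
        - ((-1 : ℤ) ^ (k : ℕ) • rsp P ((inf_le_Uσ_cons U i τ).trans
          (leOfHom (face U (Fin.cons i τ : Fin (n + 3) → ι) k.succ)))
          (proj U P (n + 1) ((Fin.cons i τ : Fin (n + 3) → ι) ∘ k.succ.succAbove) c)) := by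
      intro k
      rw [Fin.val_succ, pow_succ, mul_neg, mul_one, neg_smul]
    rw [Finset.sum_congr rfl fun k _ => h4 k, Finset.sum_neg_distrib] at h0
    simp only [Fin.val_zero, pow_zero, one_smul] at h0
    exact (add_neg_eq_zero.mp h0)
  rw [h3, Finset.smul_sum, sub_eq_zero]
  refine Finset.sum_congr rfl fun k _ => ?_
  rw [smul_comm]

omit hL in
lemma sum_smulC {n : ℕ} (r : ι → R) (c : (CK U P).X n) :
    ∑ i, smulC U (r i) c = smulC U (∑ i, r i) c := by
  apply ext_proj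
  intro σ
  rw [map_sum, proj_smulC, Finset.sum_smul]
  refine Finset.sum_congr rfl fun i _ => ?_
  rw [proj_smulC]

/-- **Čech acyclicity from localization data.** -/
theorem LocData.acyc (n : ℕ) : Acyc U P n := by
  classical
  intro c hc
  obtain ⟨m, hb⟩ := hL.exists_uniform_lift c
  choose b hb using hb
  have hz : ∀ (i : ι) (τ : Fin (n + 2) → ι), ∃ m' : ℕ, f i ^ m' •
      proj U P (n + 1) τ ((CK U P).d n (n + 1) (b i) - smulC U (f i ^ m) c) = 0 :=
    fun i τ => hL.inj (n + 1) τ i _ (hL.rsp_d_sub_eq_zero c hc i m (b i) (hb i) τ)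
  choose m'fun hm'fun using hz
  obtain ⟨m', hm'⟩ := (Set.finite_range
    (fun p : ι × (Fin (n + 2) → ι) => m'fun p.1 p.2)).bddAbove
  have hm'' : ∀ i τ, m'fun i τ ≤ m' := fun i τ => hm' ⟨(i, τ), rfl⟩
  have hkill : ∀ i, smulC U (f i ^ m')
      ((CK U P).d n (n + 1) (b i) - smulC U (f i ^ m) c) = 0 := by
    intro i
    apply ext_proj
    intro τ
    rw [proj_smulC, map_zero, ← Nat.sub_add_cancel (hm'' i τ), pow_add, mul_smul, hm'fun,
      smul_zero]
  have hd : ∀ i, (CK U P).d n (n + 1) (smulC U (f i ^ m') (b i)) =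
      smulC U (f i ^ (m' + m)) c := by
    intro i
    have h := hkill i
    rw [smulC_sub, smulC_smulC, ← pow_add, sub_eq_zero] at h
    rw [d_smulC U hL.lin, h]
  obtain ⟨g, hg⟩ := hL.pu (m' + m)
  let bsum : (CK U P).X n := ∑ i, smulC U (g i) (smulC U (f i ^ m') (b i))
  have hdb : (CK U P).d n (n + 1) bsum = smulC U (∑ i, g i * f i ^ (m' + m)) c := by
    change (CK U P).d n (n + 1) (∑ i, smulC U (g i) (smulC U (f i ^ m') (b i))) = _
    rw [map_sum, ← sum_smulC]
    refine Finset.sum_congr rfl fun i _ => ?_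
    rw [d_smulC U hL.lin, hd, smulC_smulC]
  have hsurj : ∀ σ : Fin (n + 1) → ι, ∃ y : P.obj (op (Uσ U σ)),
      (∑ i, g i * f i ^ (m' + m)) • y = proj U P n σ bsum := fun σ => (hg n σ).2 _
  choose y hy using hsurj
  refine ⟨_root_.Groth.Agent.Lib.Helper22.Cech.mk U P y, ?_⟩
  have hy' : smulC U (∑ i, g i * f i ^ (m' + m))
      (_root_.Groth.Agent.Lib.Helper22.Cech.mk U P y) = bsum := by
    apply ext_proj
    intro σ
    rw [proj_smulC, proj_mk, hy]
  apply ext_proj
  intro τ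
  apply (hg (n + 1) τ).1
  change (∑ i, g i * f i ^ (m' + m)) • proj U P (n + 1) τ _ =
    (∑ i, g i * f i ^ (m' + m)) • proj U P (n + 1) τ c
  rw [← proj_smulC, ← proj_smulC, ← d_smulC U hL.lin, hy', hdb]

end main

end Groth.Agent.Lib.Helper22.Cech
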