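import Groth.Agent.Lib.Helper22.Cech.Site
import Groth.Agent.Lib.Helper22.ExtCompare

/-!
# Cartan/Leray-type theorems for Čech cohomology on a site
-/

set_option autoImplicit false
set_option linter.unusedSectionVars false

universe u

open CategoryTheory CategoryTheory.Limits Opposite Abelian

namespace Groth.Agent.Lib.Helper22.Cech.Site

variable {C : Type u} [SmallCategory C] {J : GrothendieckTopology C}

/-- The injective hull short exact sequence of a sheaf. -/
noncomputable abbrev injSC (F : Sheaf J AddCommGrpCat.{u}) : ShortComplex (Sheaf J AddCommGrpCat.{u}) :=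
  ExtCompare.injSC F

lemma injSC_shortExact (F : Sheaf J AddCommGrpCat.{u}) : (injSC F).ShortExact :=
  ExtCompare.injSC_shortExact F

lemma homEquivSect_naturality_right (V : C) {G G' : Sheaf J AddCommGrpCat.{u}}
    (φ : CohCx.freeSheaf J V ⟶ G) (g : G ⟶ G') :
    CohFree.homEquivSect J V G' (φ ≫ g) = g.hom.app (op V) (CohFree.homEquivSect J V G φ) := rfl

/-- Abstract acyclicity criterion on a site. -/
theorem ext_succ_eq_zero_of_class (𝒞 : Sheaf J AddCommGrpCat.{u} → Prop) (B : Set C)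
    (hsurj : ∀ F, 𝒞 F → ∀ V ∈ B, Function.Surjective ((injSC F).g.hom.app (op V)))
    (hquot : ∀ F, 𝒞 F → 𝒞 (injSC F).X₃) (n : ℕ) :
    ∀ F, 𝒞 F → ∀ V ∈ B, ∀ x : Ext (CohCx.freeSheaf J V) F (n + 1), x = 0 := by
  induction n with
  | zero =>
    intro F hF V hV x
    have hS := injSC_shortExact F
    have h0 : x.comp (Ext.mk₀ (injSC F).f) (add_zero 1) = 0 := Ext.eq_zero_of_injective _
    obtain ⟨x₃, hx₃⟩ := Ext.covariant_sequence_exact₁ _ hS x h0 (zero_add 1)
    obtain ⟨t, ht⟩ := hsurj F hF V hV (CohFree.homEquivSect J V _ (Ext.homEquiv₀ x₃))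
    have hz : (Ext.mk₀ ((CohFree.homEquivSect J V (injSC F).X₂).symm t)).comp
        (Ext.mk₀ (injSC F).g) (add_zero 0) = x₃ := by
      rw [Ext.mk₀_comp_mk₀]
      have : (CohFree.homEquivSect J V (injSC F).X₂).symm t ≫ (injSC F).g =
          Ext.homEquiv₀ x₃ := by
        apply (CohFree.homEquivSect J V (injSC F).X₃).injective
        rw [homEquivSect_naturality_right, AddEquiv.apply_symm_apply]
        exact ht
      rw [this, Ext.mk₀_homEquiv₀_apply]
    rw [← hx₃, ← hz, Ext.comp_assoc_of_second_deg_zero, hS.comp_extClass, Ext.comp_zero]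
  | succ n ih =>
    intro F hF V hV x
    have hS := injSC_shortExact F
    have h0 : x.comp (Ext.mk₀ (injSC F).f) (add_zero (n + 1 + 1)) = 0 :=
      Ext.eq_zero_of_injective _
    obtain ⟨x₃, hx₃⟩ := Ext.covariant_sequence_exact₁ _ hS x h0 (n₀ := n + 1) rfl
    rw [← hx₃, ih (injSC F).X₃ (hquot F hF) V hV x₃, Ext.zero_comp]

section ExtSide

variable (S : ShortComplex (Sheaf J AddCommGrpCat.{u})) (hS : S.ShortExact) (V : C)

/-- `Q(V) → Ext¹(ℤ_V, F)`. -/
noncomputable def extδ : S.X₃.obj.obj (op V) →+ Ext (CohCx.freeSheaf J V) S.X₁ 1 :=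
  (hS.extClass.postcomp (CohCx.freeSheaf J V) (zero_add 1)).comp
    ((Ext.addEquiv₀ (X := CohCx.freeSheaf J V) (Y := S.X₃)).symm.toAddMonoidHom.comp
      (CohFree.homEquivSect J V S.X₃).symm.toAddMonoidHom)

lemma extδ_apply (t : S.X₃.obj.obj (op V)) :
    extδ S hS V t =
      (Ext.mk₀ ((CohFree.homEquivSect J V S.X₃).symm t)).comp hS.extClass (zero_add 1) := rfl

lemma extδ_surjective (h1 : ∀ x : Ext (CohCx.freeSheaf J V) S.X₂ 1, x = 0) :
    Function.Surjective (extδ S hS V) := by
  intro x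
  obtain ⟨x₃, hx₃⟩ := Ext.covariant_sequence_exact₁ (CohCx.freeSheaf J V) hS x (h1 _) (zero_add 1)
  refine ⟨CohFree.homEquivSect J V S.X₃ (Ext.homEquiv₀ x₃), ?_⟩
  rw [extδ_apply, AddEquiv.symm_apply_apply, Ext.mk₀_homEquiv₀_apply, hx₃]

lemma extδ_eq_zero_iff (t : S.X₃.obj.obj (op V)) :
    extδ S hS V t = 0 ↔ ∃ s, S.g.hom.app (op V) s = t := by
  rw [extδ_apply]
  constructor
  · intro h
    obtain ⟨x₂, hx₂⟩ := Ext.covariant_sequence_exact₃ (CohCx.freeSheaf J V) hS _ (zero_add 1) h
    refine ⟨CohFree.homEquivSect J V S.X₂ (Ext.homEquiv₀ x₂), ?_⟩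
    have h2 : Ext.homEquiv₀ x₂ ≫ S.g = (CohFree.homEquivSect J V S.X₃).symm t := by
      apply (Ext.mk₀_bijective _ _).1
      rw [← hx₂, ← Ext.mk₀_comp_mk₀, Ext.mk₀_homEquiv₀_apply]
    have h3 := homEquivSect_naturality_right V (Ext.homEquiv₀ x₂) S.g
    rw [h2, AddEquiv.apply_symm_apply] at h3
    exact h3.symm
  · rintro ⟨s, rfl⟩
    have h3 := homEquivSect_naturality_right V
      ((CohFree.homEquivSect J V S.X₂).symm s) S.g
    rw [AddEquiv.apply_symm_apply] at h3
    have h4 : (CohFree.homEquivSect J V S.X₃).symm (S.g.hom.app (op V) s) =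
        (CohFree.homEquivSect J V S.X₂).symm s ≫ S.g := by
      rw [← h3, AddEquiv.symm_apply_apply]
    rw [h4, ← Ext.mk₀_comp_mk₀, Ext.comp_assoc_of_second_deg_zero, hS.comp_extClass,
      Ext.comp_zero]

include hS in
lemma surjective_of_ext_one_eq_zero (h : ∀ x : Ext (CohCx.freeSheaf J V) S.X₁ 1, x = 0) :
    Function.Surjective (S.g.hom.app (op V)) := fun t =>
  (extδ_eq_zero_iff S hS V t).1 (h _)

end ExtSide

variable [HasPullbacks C]

lemma w_injSC (F : Sheaf J AddCommGrpCat.{u}) (U : C) :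
    rMap (U := U) (injSC F).f.hom ≫ rMap (injSC F).g.hom = 0 := by
  have h : (injSC F).f.hom ≫ (injSC F).g.hom = 0 := congrArg (fun φ => φ.hom) (injSC F).zero
  change Functor.whiskerLeft (Over.forget U).op (injSC F).f.hom ≫
    Functor.whiskerLeft (Over.forget U).op (injSC F).g.hom = 0
  rw [← Functor.whiskerLeft_comp, h]
  rfl

lemma acyc_of_injective_sheaf (I : Sheaf J AddCommGrpCat.{u}) [Injective I] {U : C}
    {ι : Type u} (Y : ι → Over U) (n : ℕ) : Acyc Y (rP I.obj) n :=
  acyc_of_injective Y (rP I.obj) n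

section Basis

variable (B : Set C) (Cov : ∀ (U : C) (ι : Type u), (ι → Over U) → Prop)

/-- Čech-acyclicity for the families in `Cov`. -/
def CovAcyclic (F : Sheaf J AddCommGrpCat.{u}) : Prop :=
  ∀ (U : C) (ι : Type u) (Y : ι → Over U), Cov U ι Y → ∀ p : ℕ, Acyc Y (rP F.obj) p

variable {B Cov}
  (h1 : ∀ (U : C) (ι : Type u) (Y : ι → Over U), Cov U ι Y → U ∈ B ∧
      Sieve.ofArrows (fun i => (Y i).left) (fun i => (Y i).hom) ∈ J U ∧
      ∀ (p : ℕ) (a : Fin (p + 1) → ι), (∏ᶜ fun k => Y (a k)).left ∈ B)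
  (h2 : ∀ U ∈ B, ∀ T ∈ J U, ∃ (ι : Type u) (Y : ι → Over U), Cov U ι Y ∧
      ∀ i, T.arrows (Y i).hom)

include h1 h2 in
lemma surjective_of_covAcyclic (S : ShortComplex (Sheaf J AddCommGrpCat.{u}))
    (hS : S.ShortExact) (hF : CovAcyclic Cov S.X₁) (V : C) (hV : V ∈ B) :
    Function.Surjective (S.g.hom.app (op V)) := by
  intro t
  have hepi : Epi S.g := hS.epi_g
  have hls : Presheaf.IsLocallySurjective J S.g.hom :=
    (Sheaf.isLocallySurjective_iff_epi' (J := J) (A := AddCommGrpCat.{u}) S.g).2 hepi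
  have hT : Presheaf.imageSieve S.g.hom t ∈ J V := hls.imageSieve_mem t
  obtain ⟨ι, Y, hCov, hYT⟩ := h2 V hV _ hT
  exact exists_lift_of_acyc_zero Y S hS (h1 V ι Y hCov).2.1 (hF V ι Y hCov 0) t hYT

include h1 h2 in
lemma CovAcyclic.secExact {F : Sheaf J AddCommGrpCat.{u}} (hF : CovAcyclic Cov F) {U : C}
    {ι : Type u} (Y : ι → Over U) (hY : Cov U ι Y) :
    SecExact Y (rMap (U := U) (injSC F).f.hom) (rMap (injSC F).g.hom) :=
  secExact_of_shortExact Y _ (injSC_shortExact F) fun n σ =>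
    surjective_of_covAcyclic h1 h2 (injSC F) (injSC_shortExact F) hF _ ((h1 U ι Y hY).2.2 n σ)

include h1 h2 in
lemma CovAcyclic.quot {F : Sheaf J AddCommGrpCat.{u}} (hF : CovAcyclic Cov F) :
    CovAcyclic Cov (injSC F).X₃ := by
  intro U ι Y hY p
  exact (hF.secExact h1 h2 Y hY).acyc_quot p (acyc_of_injective_sheaf (injSC F).X₂ Y p)
    (hF U ι Y hY (p + 1))

include h1 h2 in
/-- Acyclicity on a class of objects from Čech-acyclicity on a cofinal system of coverings. -/
theorem subsingleton_HU_succ_of_covAcyclic (F : Sheaf J AddCommGrpCat.{u})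
    (h3 : ∀ (U : C) (ι : Type u) (Y : ι → Over U), Cov U ι Y →
      ∀ p : ℕ, IsZero (CohCx.cechH F.obj Y (p + 1)))
    (U : C) (hU : U ∈ B) (p : ℕ) : Subsingleton (CohSite.HU F (p + 1) U) :=
  subsingleton_of_forall_eq 0 fun x =>
    ext_succ_eq_zero_of_class (CovAcyclic Cov) B
      (fun G hG V hV => surjective_of_covAcyclic h1 h2 (injSC G) (injSC_shortExact G) hG V hV)
      (fun _ hG => hG.quot h1 h2) p F
      (fun U ι Y hY q => (isZero_homology_succ_iff_acyc Y (rP F.obj) q).1 (h3 U ι Y hY q)) U hU x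

end Basis

section H0

variable {U : C} {ι : Type u} (Y : ι → Over U) (P : Cᵒᵖ ⥤ AddCommGrpCat.{u})

/-- The restriction cochain as a morphism. -/
noncomputable def resHom (n : ℕ) : P.obj (op U) ⟶ (CK Y (rP P)).X n :=
  Pi.lift fun σ => (P.map (Uσ Y σ).hom.op : P.obj (op U) ⟶ (rP P).obj (op (Uσ Y σ)))

lemma resHom_apply (n : ℕ) (s : P.obj (op U)) : resHom Y P n s = resCochain Y P s n := by
  apply ext_proj
  intro σ
  rw [proj_resCochain]
  have := ConcreteCategory.congr_hom
    (Pi.lift_π (fun σ : Fin (n + 1) → ι =>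
      (P.map (Uσ Y σ).hom.op : P.obj (op U) ⟶ (rP P).obj (op (Uσ Y σ)))) σ) s
  rw [ConcreteCategory.comp_apply] at this
  exact this

lemma resHom_d : resHom Y P 0 ≫ (CK Y (rP P)).d 0 1 = 0 := by
  ext s
  rw [ConcreteCategory.comp_apply, resHom_apply, d_resCochain_zero]
  rfl

lemma resHom_naturality {Q : Cᵒᵖ ⥤ AddCommGrpCat.{u}} (f : P ⟶ Q) (n : ℕ) :
    resHom Y P n ≫ ((cechComplexFunctor Y).map (rMap f)).f n = f.app (op U) ≫ resHom Y Q n := by
  ext s
  rw [ConcreteCategory.comp_apply, ConcreteCategory.comp_apply, resHom_apply, resHom_apply]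
  exact cmap_resCochain Y P f s n

/-- The map from sections over `U` to `Ȟ⁰`. -/
noncomputable def toH0 : P.obj (op U) ⟶ (CK Y (rP P)).homology 0 :=
  (CK Y (rP P)).liftCycles (resHom Y P 0) 1 (by simp) (resHom_d Y P) ≫ (CK Y (rP P)).homologyπ 0

lemma toH0_naturality {Q : Cᵒᵖ ⥤ AddCommGrpCat.{u}} (f : P ⟶ Q) :
    toH0 Y P ≫ HomologicalComplex.homologyMap ((cechComplexFunctor Y).map (rMap f)) 0 =
      f.app (op U) ≫ toH0 Y Q := by
  unfold toH0
  rw [Category.assoc, HomologicalComplex.homologyπ_naturality, ← Category.assoc,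
    HomologicalComplex.liftCycles_comp_cyclesMap, ← Category.assoc]
  congr 1
  rw [← cancel_mono ((CK Y (rP Q)).iCycles 0)]
  simp only [HomologicalComplex.liftCycles_i, Category.assoc]
  exact resHom_naturality Y P f 0

/-- For a sheaf and a covering family, sections over `U` are `Ȟ⁰`. -/
lemma toH0_bijective (Q : Sheaf J AddCommGrpCat.{u})
    (hY : Sieve.ofArrows (fun i => (Y i).left) (fun i => (Y i).hom) ∈ J U) :
    Function.Bijective (toH0 Y Q.obj) := by
  have hi : Function.Injective ((CK Y (rP Q.obj)).iCycles 0) :=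
    (AddCommGrpCat.mono_iff_injective _).1 inferInstance
  have hl : ∀ s, (CK Y (rP Q.obj)).iCycles 0
      ((CK Y (rP Q.obj)).liftCycles (resHom Y Q.obj 0) 1 (by simp) (resHom_d Y Q.obj) s) =
        resCochain Y Q.obj s 0 := by
    intro s
    rw [← ConcreteCategory.comp_apply, HomologicalComplex.liftCycles_i, resHom_apply]
  have h1 : Function.Bijective
      ((CK Y (rP Q.obj)).liftCycles (resHom Y Q.obj 0) 1 (by simp) (resHom_d Y Q.obj)) := by
    constructor
    · intro s s' hss'
      apply resCochain_zero_injective Y Q hY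
      rw [← hl, ← hl, hss']
    · intro z
      have hz : (CK Y (rP Q.obj)).d 0 1 ((CK Y (rP Q.obj)).iCycles 0 z) = 0 := by
        rw [← ConcreteCategory.comp_apply, HomologicalComplex.iCycles_d]
        rfl
      obtain ⟨s, hs⟩ := exists_section_of_cocycle Y Q hY _ hz
      refine ⟨s, ?_⟩
      apply hi
      rw [hl, hs]
  have h2 : Function.Bijective ((CK Y (rP Q.obj)).homologyπ 0) :=
    ConcreteCategory.bijective_of_isIso _
  have h3 : ⇑(ConcreteCategory.hom (toH0 Y Q.obj)) =
      ⇑(ConcreteCategory.hom ((CK Y (rP Q.obj)).homologyπ 0)) ∘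
        ⇑(ConcreteCategory.hom ((CK Y (rP Q.obj)).liftCycles (resHom Y Q.obj 0) 1 (by simp)
          (resHom_d Y Q.obj))) := by
    funext s
    exact ConcreteCategory.comp_apply _ _ s
  rw [h3]
  exact h2.comp h1

end H0

/-- Two surjections with the same kernel have isomorphic targets. -/
lemma nonempty_addEquiv_of_surjective_of_ker_eq {A T T' : Type u} [AddCommGroup A]
    [AddCommGroup T] [AddCommGroup T'] (a : A →+ T) (a' : A →+ T')
    (ha : Function.Surjective a) (ha' : Function.Surjective a')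
    (hk : ∀ t, a t = 0 ↔ a' t = 0) : Nonempty (T ≃+ T') := by
  have hker : a.ker = a'.ker := by
    ext t
    exact hk t
  exact ⟨(QuotientAddGroup.quotientKerEquivOfSurjective a ha).symm.trans
    ((QuotientAddGroup.quotientAddEquivOfEq hker).trans
      (QuotientAddGroup.quotientKerEquivOfSurjective a' ha'))⟩

section Leray

variable {U : C} {ι : Type u} (Y : ι → Over U)

/-- The Leray hypothesis: higher cohomology of `F` vanishes on all iterated fibre products. -/
def LerayGood (F : Sheaf J AddCommGrpCat.{u}) : Prop :=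
  ∀ (n : ℕ) (σ : Fin (n + 1) → ι) (q : ℕ)
    (x : Ext (CohCx.freeSheaf J (Uσ Y σ).left) F (q + 1)), x = 0

variable {Y}

lemma LerayGood.secExact {F : Sheaf J AddCommGrpCat.{u}} (hF : LerayGood Y F) :
    SecExact Y (rMap (U := U) (injSC F).f.hom) (rMap (injSC F).g.hom) :=
  secExact_of_shortExact Y _ (injSC_shortExact F) fun n σ =>
    surjective_of_ext_one_eq_zero (injSC F) (injSC_shortExact F) _ (hF n σ 0)

lemma LerayGood.quot {F : Sheaf J AddCommGrpCat.{u}} (hF : LerayGood Y F) :
    LerayGood Y (injSC F).X₃ := by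
  intro n σ q x
  have e := ExtCompare.shiftEquiv (injSC_shortExact F) (CohCx.freeSheaf J (Uσ Y σ).left) q
    (fun y => Ext.eq_zero_of_injective y) (fun y => Ext.eq_zero_of_injective y)
  apply e.injective
  rw [map_zero]
  exact hF n σ (q + 1) _

variable (Y) (hY : Sieve.ofArrows (fun i => (Y i).left) (fun i => (Y i).hom) ∈ J U)
include hY

theorem nonempty_cech_addEquiv_ext_zero (F : Sheaf J AddCommGrpCat.{u}) :
    Nonempty ((CK Y (rP F.obj)).homology 0 ≃+ Ext (CohCx.freeSheaf J U) F 0) :=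
  ⟨(AddEquiv.ofBijective (toH0 Y F.obj).hom (toH0_bijective Y F hY)).symm.trans
    ((CohFree.homEquivSect J U F).symm.trans Ext.addEquiv₀.symm)⟩

theorem nonempty_cech_addEquiv_ext_succ (p : ℕ) :
    ∀ F : Sheaf J AddCommGrpCat.{u}, LerayGood Y F →
      Nonempty ((CK Y (rP F.obj)).homology (p + 1) ≃+ Ext (CohCx.freeSheaf J U) F (p + 1)) := by
  induction p with
  | zero =>
    intro F hF
    have hS := injSC_shortExact F
    have hse := hF.secExact
    have hI1 : IsZero ((CK Y (rP (injSC F).X₂.obj)).homology 1) :=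
      isZero_homology_succ_of_injective Y _ 0
    let a : (injSC F).X₃.obj.obj (op U) →+ (CK Y (rP F.obj)).homology 1 :=
      (δ₀ (w_injSC F U) hse).comp (toH0 Y (injSC F).X₃.obj).hom
    refine nonempty_addEquiv_of_surjective_of_ker_eq a (extδ (injSC F) hS U) ?_
      (extδ_surjective _ hS _ (fun x => Ext.eq_zero_of_injective x)) ?_
    · exact (δ₀_surjective _ hse hI1).comp (toH0_bijective Y _ hY).2
    · intro t
      rw [extδ_eq_zero_iff]
      change δ₀ _ hse (toH0 Y _ t) = 0 ↔ _
      rw [δ₀_eq_zero_iff]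
      constructor
      · rintro ⟨y, hy⟩
        obtain ⟨s, rfl⟩ := (toH0_bijective Y (injSC F).X₂ hY).2 y
        refine ⟨s, ?_⟩
        apply (toH0_bijective Y (injSC F).X₃ hY).1
        rw [← hy]
        have := ConcreteCategory.congr_hom (toH0_naturality Y _ (injSC F).g.hom) s
        rw [ConcreteCategory.comp_apply, ConcreteCategory.comp_apply] at this
        exact this.symm
      · rintro ⟨s, rfl⟩
        refine ⟨toH0 Y _ s, ?_⟩
        have := ConcreteCategory.congr_hom (toH0_naturality Y _ (injSC F).g.hom) s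
        rw [ConcreteCategory.comp_apply, ConcreteCategory.comp_apply] at this
        exact this
  | succ p ih =>
    intro F hF
    have hS := injSC_shortExact F
    have hse := hF.secExact
    obtain ⟨e1⟩ := nonempty_homology_succ_addEquiv (w_injSC F U) hse p
      (isZero_homology_succ_of_injective Y _ p) (isZero_homology_succ_of_injective Y _ (p + 1))
    obtain ⟨e2⟩ := ih (injSC F).X₃ hF.quot
    have e3 := ExtCompare.shiftEquiv hS (CohCx.freeSheaf J U) p
      (fun y => Ext.eq_zero_of_injective y) (fun y => Ext.eq_zero_of_injective y)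
    exact ⟨e1.symm.trans (e2.trans e3)⟩

/-- **Leray's theorem on a site.** -/
theorem nonempty_cechH_addEquiv_HU (F : Sheaf J AddCommGrpCat.{u})
    (h : ∀ (p : ℕ) (a : Fin (p + 1) → ι) (q : ℕ),
      Subsingleton (CohSite.HU F (q + 1) (∏ᶜ fun k => Y (a k)).left))
    (p : ℕ) : Nonempty (CohCx.cechH F.obj Y p ≃+ CohSite.HU F p U) := by
  have hF : LerayGood Y F := by
    intro n σ q x
    have hsub : Subsingleton (CohSite.HU F (q + 1) (Uσ Y σ).left) := h n σ q
    exact hsub.elim x 0
  cases p with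
  | zero => exact nonempty_cech_addEquiv_ext_zero Y hY F
  | succ p => exact nonempty_cech_addEquiv_ext_succ Y hY p F hF

end Leray

end Groth.Agent.Lib.Helper22.Cech.Site
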