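import Groth.Agent.Lib.Helper22.QcqsInductionLe
import Groth.Agent.Lib.Helper22.Cech.AffineMorphism
import Groth.Agent.Lib.Helper22.CohTop.MayerVietoris

/-!
# Uniform vanishing of higher direct images along quasi-compact quasi-separated morphisms
-/

set_option autoImplicit false
set_option linter.unusedSectionVars false

universe u

open TopCat AlgebraicGeometry TopologicalSpace CategoryTheory CategoryTheory.Limits Opposite Abelian

namespace Groth.Agent.Lib.Helper22.Cech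

open _root_.Groth.Agent.Lib.Helper22.CohTop _root_.Groth.Agent.Lib.Helper22.ExtCompare

section general

variable {X Y : TopCat.{u}} (f : X ⟶ Y)

/-- The class of sheaves whose cohomology on the preimages of the opens in `B` vanishes in degrees
`≥ n`. -/
def PreimageAcyclicGE (B : Set (Opens Y)) (n : ℕ) (F : CohTop.Ab X) : Prop :=
  ∀ V ∈ B, ∀ (q : ℕ), n ≤ q → ∀ x : Ext (ZU ((Opens.map f).obj V)) F q, x = 0

lemma PreimageAcyclicGE.quot {B : Set (Opens Y)} {n : ℕ} {F : CohTop.Ab X}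
    (hF : PreimageAcyclicGE f B (n + 2) F) :
    PreimageAcyclicGE f B (n + 1) (CohTop.injSC F).X₃ := by
  intro V hV q hq x
  obtain ⟨q', rfl⟩ : ∃ q', q = q' + 1 := ⟨q - 1, by omega⟩
  have e := ExtCompare.shiftEquiv (CohTop.injSC_shortExact F) (ZU ((Opens.map f).obj V)) q'
    (fun y => Ext.eq_zero_of_injective y) (fun y => Ext.eq_zero_of_injective y)
  apply e.injective
  rw [map_zero]
  exact hF V hV (q' + 2) (by omega) _

/-- If the cohomology of `F` on the preimages of a basis of `Y` vanishes in degrees `≥ n ≥ 1`, so do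
its higher direct images. -/
theorem isZero_Rpush_of_preimageAcyclicGE {B : Set (Opens Y)} (hB : Opens.IsBasis B) (n : ℕ) :
    ∀ (F : CohTop.Ab X), PreimageAcyclicGE f B (n + 1) F → ∀ p : ℕ, n + 1 ≤ p →
      IsZero ((CohTop.Rpush f p).obj F) := by
  induction n with
  | zero =>
    intro F hF p hp
    obtain ⟨p', rfl⟩ : ∃ p', p = p' + 1 := ⟨p - 1, by omega⟩
    exact isZero_Rpush_succ_of_preimageAcyclic f hB F
      (fun V hV q x => hF V hV (q + 1) (by omega) x) p'
  | succ n ih =>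
    intro F hF p hp
    obtain ⟨p', rfl⟩ : ∃ p', p = p' + 2 := ⟨p - 2, by omega⟩
    exact (DimShift.isZero_rightDerived_succ_succ_iff (CohTop.push f) (CohTop.injSC F)
      (CohTop.injSC_shortExact F) p').2 (ih _ (hF.quot f) (p' + 1) (by omega))

end general

section scheme

/-- The intersection of an affine open with the preimage of an affine open is affine, when both lie
over a common affine open of the base. -/
theorem isAffineOpen_inf_preimage {X S : Scheme.{u}} (f : X ⟶ S) {A : X.Opens} {S' V : S.Opens}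
    (hA : IsAffineOpen A) (hS' : IsAffineOpen S') (hV : IsAffineOpen V) (hAS' : A ≤ f ⁻¹ᵁ S')
    (hVS' : V ≤ S') : IsAffineOpen (A ⊓ f ⁻¹ᵁ V) := by
  have : IsAffine A.toScheme := hA
  have : IsAffine S'.toScheme := hS'
  let g : A.toScheme ⟶ S'.toScheme := f.resLE S' A hAS'
  have hg : IsAffineHom g := inferInstance
  have hV' : IsAffineOpen (S'.ι ⁻¹ᵁ V) := by
    rw [← Scheme.Hom.isAffineOpen_iff_of_isOpenImmersion S'.ι,
      Scheme.Hom.image_preimage_eq_opensRange_inf, Scheme.Opens.opensRange_ι,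
      inf_eq_right.mpr hVS']
    exact hV
  have h1 : IsAffineOpen (g ⁻¹ᵁ (S'.ι ⁻¹ᵁ V)) := hV'.preimage g
  have h2 : IsAffineOpen (A.ι ''ᵁ (g ⁻¹ᵁ (S'.ι ⁻¹ᵁ V))) := h1.image_of_isOpenImmersion A.ι
  have h3 : g ⁻¹ᵁ (S'.ι ⁻¹ᵁ V) = A.ι ⁻¹ᵁ (f ⁻¹ᵁ V) := by
    rw [← Scheme.Hom.comp_preimage, ← Scheme.Hom.comp_preimage, Scheme.Hom.resLE_comp_ι]
  rw [h3, Scheme.Hom.image_preimage_eq_opensRange_inf, Scheme.Opens.opensRange_ι] at h2
  exact h2

variable (X : Scheme.{u})

/-- Uniform cohomological bound on a compact open inside a quasi-separated open `T`, stable under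
intersecting with opens `W` that meet the affine opens of `T` in affine opens. -/
theorem exists_uniform_bound (T : X.Opens) (hT : IsQuasiSeparated (T : Set X))
    (𝒲 : Set X.Opens) (h𝒲 : ∀ A : X.Opens, A ≤ T → IsAffineOpen A → ∀ W ∈ 𝒲, IsAffineOpen (A ⊓ W))
    (U : X.Opens) (hUT : U ≤ T) (hU : IsCompact (U : Set X)) :
    ∃ d : ℕ, ∀ W ∈ 𝒲, ∀ (M : X.Modules), M.IsQuasicoherent → ∀ p : ℕ, d ≤ p →
      Subsingleton (CohTop.HU (Coh.toAb M) p (U ⊓ W)) := by
  refine Qcqs.qcqs_induction_le T hT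
    (fun U => ∃ d : ℕ, ∀ W ∈ 𝒲, ∀ (M : X.Modules), M.IsQuasicoherent → ∀ p : ℕ, d ≤ p →
      Subsingleton (CohTop.HU (Coh.toAb M) p (U ⊓ W))) ?_ ?_ U hUT hU
  · intro U hUT hU
    refine ⟨1, fun W hW M hM p hp => ?_⟩
    obtain ⟨q, rfl⟩ : ∃ q, p = q + 1 := ⟨p - 1, by omega⟩
    exact subsingleton_HU_succ_of_isAffineOpen X M _ (h𝒲 U hUT hU W hW) q
  · rintro U V _ _ _ _ ⟨dU, hdU⟩ ⟨dV, hdV⟩ ⟨dI, hdI⟩
    refine ⟨max (max dU dV) (dI + 1), fun W hW M hM p hp => ?_⟩
    obtain ⟨m, rfl⟩ : ∃ m, p = m + 1 := ⟨p - 1, by omega⟩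
    rw [inf_sup_right]
    refine subsingleton_HU_sup (X := X.carrier) (Coh.toAb M) (U ⊓ W) (V ⊓ W) m ?_
      (hdU W hW M hM _ (by omega)) (hdV W hW M hM _ (by omega))
    rw [← inf_inf_distrib_right]
    exact hdI W hW M hM m (by omega)

end scheme

end Groth.Agent.Lib.Helper22.Cech
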